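import Cfsg.Agent.MQ.S.Mat.Abs
import Cfsg.Agent.H620.RIM.SporB_m3
import Cfsg.Agent.MQ.A.Glob.Main
import Cfsg.Agent.TAB.F22.FxC_m3
import Cfsg.Agent.TAB.Eng.Fin
import Cfsg.Agent.H759.RIM.SuzUp_m3
import Cfsg.Agent.OddOrderCharacters.VChar
import Cfsg.Agent.H829.GowDesc
import Cfsg.Agent.MQ.S.M35.Loc
import Cfsg.Agent.H588.RIM.Val_m3
import Cfsg.Agent.MQ.S.Pc2
import Cfsg.Agent.MQ.S.B.Tri
import Cfsg.Agent.OddHalf.Table.OutRu
import Cfsg.Agent.Lib.FinFast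
import Cfsg.Agent.FastGrp
import Cfsg.Agent.Prune
set_option linter.all false
prune_inst 0x7ffdfff9bba8b9dfffff7e3fffd9dff831c0cfffe6dff94bffe1ebbfef9f232b29c56bad9de010fe8e57e21410b87843fb7eceffe86bdc7ffffd5ff41ffbee4ff5f7350951dc8cb40fbc0fff83f377a86f3fffffffffffffffffffffffffffffffbffbfeffff
open scoped Cfsg.Agent.FastGrp

-- part: MO/S/Mat/Gam
section
/-!
# MO, the faithful characters of `2.M12` (helper93)

* `dc`, `cv` : the model `Γ`; `inc_ew` : words and packed permutations; `rp_conj` : the classes;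
* `ch` : the character of degree `12`; `exists_psi` : a character induced from a cyclic group of order `12`;
* `en` : the enumeration of the faithful characters.
-/

set_option autoImplicit false
set_option maxRecDepth 100000
set_option synthInstance.maxSize 2000

namespace Cfsg.Agent.MO.S.Mat

open Cfsg Subgroup Cfsg.Agent.MO.T Cfsg.Agent.TAB.Eng Cfsg.Agent.TAB.Sm2 Cfsg.Agent.TAB.Use Cfsg.Agent.MO.S.Cov2
open Cfsg.Agent.SporadicA.GolayBase Cfsg.Agent.SporadicA.GolayPerm Cfsg.Agent.SporadicStructure.M24El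
open Cfsg.Agent.H932.Mt (Γ neg)
open Cfsg.Agent.H24.M12 (RW rp po rpt nw eqw el_eq el_append el_rpt el_cons classes neg_conj order_rp)
open Cfsg.Agent.H243.RIM.MTw (fx fr fxw frw fx_el fr_el card_G)
open Cfsg.Agent.Characters Cfsg.Agent.Characters.Core Cfsg.Agent.Characters.Brauer Cfsg.Agent.H447.CTab

local notation "ew" => H932.Mt.el
local notation "sg" => H932.Mt.sig

instance instFiniteGam : Finite Γ := Nat.finite_of_card_ne_zero (by rw [card_G]; decide)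

theorem ker_sg : MonoidHom.ker sg = center Γ :=
  le_antisymm H243.RIM.MTw.Z_le fun z hz => mem_bot.1 (Omega.TwoF.RowM12.center_eq ▸ mem_center_iff.2 fun g => by
    obtain ⟨g, rfl⟩ := H932.Mt.sig_surjective g
    rw [← map_mul, mem_center_iff.1 hz, map_mul])

theorem dc : Dc sg neg :=
  ⟨H932.Mt.sig_surjective, ker_sg, ker_sg.le H932.Mt.sig_neg, H932.Mt.neg_ne_one,
    fun _ h => H932.Mt.eq_of_sig (ker_sg.ge h)⟩

theorem cv : Cv 2 sg :=
  ⟨dc.surj, ker_sg, dc.card, isCyclic_of_prime_card (hp := ⟨Nat.prime_two⟩) dc.card, H109.QO.MTwelve.perfect⟩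

theorem cls_ind {P : Γ → Prop} (h1 : ∀ g h, IsConj g h → P h → P g) (h2 : ∀ g, P g → P (neg * g))
    (h3 : ∀ k < 15, P (rp k)) (g : Γ) : P g := by
  obtain ⟨k, h | h⟩ := classes g
  exacts [h1 _ _ h (h3 k k.2), h1 _ _ h (h2 _ (h3 k k.2))]

theorem conj_of {c u w : List ℕ} (h : eqw (c ++ u) (w ++ c) = true) : IsConj (ew u) (ew w) := by
  have h1 := el_eq h
  rw [el_append, el_append] at h1
  exact isConj_iff.2 ⟨ew c, by rw [h1, mul_inv_cancel_right]⟩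

/-! ### words and packed permutations -/

/-- the generators -/
def g4 : ℕ → ℕ
  | 0 => 818085329412963220387295629014214147
  | 1 => 477096268699603215719203957497858098
  | 2 => 610548358857791332344472975932672304
  | _ => 477096268699603215719203957497858098

/-- the packed permutation of a word -/
def pw : List ℕ → ℕ
  | [] => idP
  | i :: w => pcomp (g4 i) (pw w)

theorem g4_ok : ∀ i : Fin 4, ok (g4 i) = true ∧ ∀ p : GolayPt, (ew [i.1]).1.2 p = pt (papp (g4 i) (idx p)) := by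
  decide +kernel

theorem inc_ew (w : List ℕ) : ok (pw w) = true ∧ M12.inc (sg (ew w)) = el (pw w) := by
  induction w with
  | nil => exact ⟨ok_idP, (map_one (M12.inc.comp sg)).trans el_idP.symm⟩
  | cons i w ih =>
    have h : ∀ i : Fin 4, ok (g4 i) = true ∧ M12.inc (sg (ew [i.1])) = el (g4 i) := fun i =>
      ⟨(g4_ok i).1, Subtype.ext (Equiv.ext fun p => ((g4_ok i).2 p).trans (el_smul_pt (g4_ok i).1 p).symm)⟩
    have h1 : ok (g4 i) = true ∧ M12.inc (sg (ew [i])) = el (g4 i) :=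
      match i with
      | 0 => h 0
      | 1 => h 1
      | 2 => h 2
      | _ + 3 => h 3
    exact ⟨ok_pcomp h1.1 ih.1, by rw [el_cons, map_mul, map_mul, h1.2, ih.2, pw, el_pcomp h1.1 ih.1]⟩

/-- the types of the representatives -/
def tk (k : ℕ) : ℕ := [0, 2, 3, 4, 1, 5, 6, 7, 9, 10, 11, 13, 13, 8, 12].getD k 0

/-- the numbers of the representatives in the table of `M12` -/
def ik (k : ℕ) : ℕ := [0, 1, 2, 3, 0, 4, 5, 6, 8, 9, 10, 13, 12, 7, 11].getD k 0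

/-- conjugating words -/
def cw (k : ℕ) : List ℕ := [[], [1, 2, 2, 2, 2, 1, 2, 1, 2, 2], [0, 1, 0, 1, 0, 1, 2, 2, 2],
  [2, 1, 0, 1, 2, 2, 1, 2, 1, 0, 0], [1, 2, 1, 2, 2, 2, 2, 1, 0, 0], [0, 1, 0, 0, 0, 1, 0, 0, 0, 1],
  [1, 0, 0, 0, 1, 0, 0, 0, 1, 2, 2, 2, 1, 0], [0, 1, 0, 0, 1, 0, 1, 0, 0, 1, 0], [0, 0, 1, 2, 2, 2, 1, 2, 2, 2, 1, 2, 1],
  [2, 1, 0, 1, 0, 1, 0, 1, 0, 0, 0, 1, 0, 1, 2], [0, 1, 2, 2, 1, 0, 1, 0, 1, 0, 0, 0, 0],
  [1, 2, 2, 1, 2, 1, 2, 1, 0, 0, 1, 0, 0, 1, 0, 0, 1], [1, 0, 1, 0, 0, 1, 0, 1, 2, 2, 1, 2, 2, 2, 1],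
  [2, 2, 1, 0, 1, 0, 1, 0, 0, 1, 2, 1], [2, 1, 0, 1, 0, 1, 0, 1, 2, 1, 2, 2]].getD k []

private noncomputable def _root_.Cfsg.Agent.LsF.fb95e46_0 : {f // @Cfsg.Agent.SporadicA.GolayPerm.pack = f} := ⟨_, by first | (delta Cfsg.Agent.SporadicA.GolayPerm.pack List.brecOn List.brecOn.go Cfsg.Agent.SporadicA.GolayPerm.pack._f; rewrite [Cfsg.Agent.LsF.nadd_pat, Cfsg.Agent.LsF.nmul_pat]; (try delta Cfsg.Agent.SporadicA.GolayPerm.pack.match_1); (try delta List.casesOn); first | dsimp -zeta only | exact rfl) | exact rfl⟩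
private noncomputable def _root_.Cfsg.Agent.LsF.fb95e46_1 : {f // @Cfsg.Agent.SporadicA.GolayPerm.papp = f} := ⟨_, by first | (delta Cfsg.Agent.SporadicA.GolayPerm.papp; rewrite [Cfsg.Agent.LsF.nmul_pat, Cfsg.Agent.LsF.nmod_pat, Cfsg.Agent.LsF.nshr_pat]; exact rfl) | exact rfl⟩
private noncomputable def _root_.Cfsg.Agent.LsF.fb95e46_2 : {f // @Cfsg.Agent.SporadicA.GolayPerm.pcomp = f} := ⟨_, by first | (delta Cfsg.Agent.SporadicA.GolayPerm.pcomp; rewrite [Cfsg.Agent.LsF.fb95e46_0.2, Cfsg.Agent.LsF.fb95e46_1.2]; exact rfl) | exact rfl⟩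
private noncomputable def _root_.Cfsg.Agent.LsF.fb95e46_3 : {f // @Cfsg.Agent.MO.S.Mat.g4 = f} := ⟨_, by first | (delta Cfsg.Agent.MO.S.Mat.g4; (try delta Cfsg.Agent.MO.S.Mat.g4.match_1); (try rewrite [Cfsg.Agent.LsF.instDecEq_eq, Cfsg.Agent.LsF.dite_eq]); exact rfl) | exact rfl⟩
private noncomputable def _root_.Cfsg.Agent.LsF.fb95e46_4 : {f // @Cfsg.Agent.MO.S.Mat.pw = f} := ⟨_, by first | (delta Cfsg.Agent.MO.S.Mat.pw List.brecOn List.brecOn.go Cfsg.Agent.MO.S.Mat.pw._f; rewrite [Cfsg.Agent.LsF.fb95e46_2.2, Cfsg.Agent.LsF.fb95e46_3.2]; (try delta Cfsg.Agent.MO.S.Mat.pw.match_1); (try delta List.casesOn); first | dsimp -zeta only | exact rfl) | exact rfl⟩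
private noncomputable def _root_.Cfsg.Agent.LsF.fb95e46_5 : {f // @Cfsg.Agent.MO.S.Mat.cw = f} := ⟨_, by first | (delta Cfsg.Agent.MO.S.Mat.cw; rewrite [Cfsg.Agent.LsF.getD_eq]; exact rfl) | exact rfl⟩
private noncomputable def _root_.Cfsg.Agent.LsF.fb95e46_6 : {f // @Cfsg.Agent.H24.M12.RW = f} := ⟨_, by first | (delta Cfsg.Agent.H24.M12.RW; (try delta Cfsg.Agent.H24.M12.RW.match_1); (try rewrite [Cfsg.Agent.LsF.instDecEq_eq, Cfsg.Agent.LsF.dite_eq]); exact rfl) | exact rfl⟩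
private noncomputable def _root_.Cfsg.Agent.LsF.fb95e46_9 : {f // @Cfsg.Agent.MO.S.Mat.ik = f} := ⟨_, by first | (delta Cfsg.Agent.MO.S.Mat.ik; rewrite [Cfsg.Agent.LsF.getD_eq]; exact rfl) | exact rfl⟩
private noncomputable def _root_.Cfsg.Agent.LsF.fb95e46_10 : {f // @Cfsg.Agent.SporadicA.GolayPerm.pimg = f} := ⟨_, by first | (delta Cfsg.Agent.SporadicA.GolayPerm.pimg; rewrite [Cfsg.Agent.LsF.fb95e46_1.2, Cfsg.Agent.LsF.nmod_pat, Cfsg.Agent.LsF.nxor_pat, Cfsg.Agent.LsF.nshl_pat, Cfsg.Agent.LsF.nshr_pat]; exact rfl) | exact rfl⟩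
private noncomputable def _root_.Cfsg.Agent.LsF.fb95e46_11 : {f // @Cfsg.Agent.SporadicA.GolayPerm.isPerm = f} := ⟨_, by first | (delta Cfsg.Agent.SporadicA.GolayPerm.isPerm; rewrite [Cfsg.Agent.LsF.fb95e46_10.2]; exact rfl) | exact rfl⟩
private noncomputable def _root_.Cfsg.Agent.LsF.fb95e46_12 : {f // @Cfsg.Agent.SporadicA.GolayBase.enc = f} := ⟨_, by first | (delta Cfsg.Agent.SporadicA.GolayBase.enc; rewrite [Cfsg.Agent.LsF.nmul_pat, Cfsg.Agent.LsF.nmod_pat, Cfsg.Agent.LsF.nxor_pat, Cfsg.Agent.LsF.nshr_pat]; exact rfl) | exact rfl⟩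
private noncomputable def _root_.Cfsg.Agent.LsF.fb95e46_13 : {f // @Cfsg.Agent.SporadicA.GolayBase.isCode = f} := ⟨_, by first | (delta Cfsg.Agent.SporadicA.GolayBase.isCode; rewrite [Cfsg.Agent.LsF.fb95e46_12.2]; exact rfl) | exact rfl⟩
private noncomputable def _root_.Cfsg.Agent.LsF.fb95e46_14 : {f // @Cfsg.Agent.SporadicA.GolayPerm.isAut = f} := ⟨_, by first | (delta Cfsg.Agent.SporadicA.GolayPerm.isAut; rewrite [Cfsg.Agent.LsF.fb95e46_13.2, Cfsg.Agent.LsF.fb95e46_10.2, Cfsg.Agent.LsF.and_eq]; exact rfl) | exact rfl⟩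
private noncomputable def _root_.Cfsg.Agent.LsF.fb95e46_15 : {f // @Cfsg.Agent.SporadicStructure.M24El.ok = f} := ⟨_, by first | (delta Cfsg.Agent.SporadicStructure.M24El.ok; rewrite [Cfsg.Agent.LsF.fb95e46_11.2, Cfsg.Agent.LsF.fb95e46_14.2, Cfsg.Agent.LsF.and_eq]; exact rfl) | exact rfl⟩
private noncomputable def _root_.Cfsg.Agent.LsF.fb95e46_16 : {f // @Cfsg.Agent.MO.S.Mat.tk = f} := ⟨_, by first | (delta Cfsg.Agent.MO.S.Mat.tk; rewrite [Cfsg.Agent.LsF.getD_eq]; exact rfl) | exact rfl⟩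
theorem cw_ok : ∀ k < 15, k ≠ 0 → pw (cw k ++ RW k) = pcomp (M12.cf (ik k)) (pw (cw k)) ∧ ik k < 14 ∧
    ok (M12.cf (ik k)) = true ∧ M12.tpL.getD (ik k) 0 = tk k := by (refine of_decide_eq_true ?_; (try (rewrite [Cfsg.Agent.LsF.fb95e46_4.2, Cfsg.Agent.LsF.fb95e46_5.2, Cfsg.Agent.LsF.fb95e46_6.2, Cfsg.Agent.LsF.fb95e46_2.2, Cfsg.Agent.LsF.fb95e46_9.2, Cfsg.Agent.LsF.fb95e46_15.2, Cfsg.Agent.LsF.fb95e46_16.2, Cfsg.Agent.LsF.lappend_pat, Cfsg.Agent.LsF.instDecEq_eq, Cfsg.Agent.LsF.decLt_eq, Cfsg.Agent.LsF.getD_eq, Cfsg.Agent.LsF.dAnd_eq, Cfsg.Agent.LsF.dNot_eq, Cfsg.Agent.LsF.dBoolEq_eq, Cfsg.Agent.LsF.dBallLT_eq, Cfsg.Agent.LsF.dAllP_eq, Cfsg.Agent.LsF.decide_eq])); decide +kernel)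

theorem rp_conj {k : ℕ} (hk : k < 15) (h0 : k ≠ 0) {x : Spor.M12} (hx : M12.inc x = el (M12.cf (ik k))) :
    IsConj (sg (rp k)) x := by
  obtain ⟨h1, -, h2, -⟩ := cw_ok k hk h0
  refine isConj_iff.2 ⟨sg (ew (cw k)), mul_inv_eq_iff_eq_mul.2 (M12.inc_inj ?_)⟩
  rw [rp, ← map_mul, ← el_append, (inc_ew _).2, h1, el_pcomp h2 (inc_ew _).1, map_mul, hx, (inc_ew _).2]

theorem rp_cent {k : ℕ} (hk : k < 15) (h0 : k ≠ 0) :
    Nat.card (centralizer ({sg (rp k)} : Set Spor.M12)) ≤ (M12.rc (ik k)).n := by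
  obtain ⟨x, hx, -⟩ := M12.reps
  have h1 := hx _ (cw_ok k hk h0).2.1
  exact (card_cent_conj (rp_conj hk h0 h1.1)).trans_le h1.2

theorem rp_nc : ¬ IsConj (sg (rp 11)) (sg (rp 12)) := fun e => by
  obtain ⟨x, hx, hP⟩ := M12.reps
  exact hP (12, 13) List.mem_cons_self ((rp_conj (k := 12) (by decide) (by decide) (hx 12 (by decide)).1).symm.trans
    (e.symm.trans (rp_conj (k := 11) (by decide) (by decide) (hx 13 (by decide)).1)))

theorem tabG : ∃ T : TD Spor.M12 M12.dat, T.Mass ∧ (∀ v ∈ M12.rA ++ M12.rB, Virt T (nth v)) ∧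
    ∀ k < 15, T.ty (sg (rp k)) = tk k := by
  obtain ⟨T, h1, h2, -, h3, h4⟩ := tab12
  obtain ⟨x, hx, -⟩ := M12.reps
  refine ⟨T, h1, h3, fun k hk => ?_⟩
  by_cases h0 : k = 0
  · rw [h0, show rp 0 = 1 from rfl, map_one, h2]
    rfl
  · obtain ⟨-, h5, -, h6⟩ := cw_ok k hk h0
    rw [← TD.ty_isConj (rp_conj hk h0 (hx _ h5).1), h4 _ h5 _ (hx _ h5).1, h6]

variable {T : TD Spor.M12 M12.dat} (hT : ∀ k < 15, T.ty (sg (rp k)) = tk k)

include hT in
theorem rp_cyc {k : ℕ} (h : k ∈ [9, 10, 11, 12, 14]) :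
    Nat.card (centralizer ({sg (rp k)} : Set Spor.M12)) ≤ orderOf (sg (rp k)) := by
  obtain ⟨h1, h2, h3⟩ := (by decide : ∀ k ∈ [9, 10, 11, 12, 14], k < 15 ∧ k ≠ 0 ∧
    (M12.rc (ik k)).n ≤ M12.dat.ord (tk k)) k h
  rw [T.ord, hT k h1]
  exact (rp_cent h1 h2).trans h3

/-! ### the seeds -/

/-- a row of a list -/
noncomputable def rv (L : List (List ℤ)) (j : ℕ) : ℕ → ℤ := nth (ntd L [] j)

/-- the character of degree `12` -/
noncomputable def ch (g : Γ) : ℂ := (fx g : ℂ) - fr g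

/-- its `δ₃` -/
noncomputable def dl (g : Γ) : ℂ := (ch (g ^ 3) - ch g ^ 3) / (3 : ℕ)

/-- the values of the seeds -/
def sd : List (List ℤ) := [[12, 0, 4, 0, 3, 0, 0, 2, 0, -1, 0, 0, 0, 1], [-572, 0, -20, 4, -5, 0, 0, -2, 0, -1, 0, 0, 0, 0],
  [15840, 0, 0, -6, 0, 0, 0, 0, 0, 0, 0, 0, 0, 0]]

theorem gen_ch : IsGeneralizedCharacter Γ ch :=
  ⟨_, _, char_fix ((MonoidHom.fst _ _).comp H932.Mt.Gam.subtype),
    char_fix (MonoidHom.mk' H932.Mt.lp fun g h => Equiv.ext (H24.M12.lp_mul g h)), rfl⟩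

theorem gen_dl : IsGeneralizedCharacter Γ dl := gen_delta gen_ch Nat.prime_three

theorem ch_el (w : List ℕ) : ch (ew w) = ((fxw w : ℤ) - frw w : ℤ) := by
  rw [ch, fx_el, fr_el]
  push_cast
  rfl

private noncomputable def _root_.Cfsg.Agent.LsF.fb95e46_17 : {f // @Cfsg.Agent.H24.M12.app = f} := ⟨_, by first | (delta Cfsg.Agent.H24.M12.app; rewrite [Cfsg.Agent.LsF.nmul_pat, Cfsg.Agent.LsF.nmod_pat, Cfsg.Agent.LsF.nshr_pat]; exact rfl) | exact rfl⟩
private noncomputable def _root_.Cfsg.Agent.LsF.fb95e46_18 : {f // @Cfsg.Agent.H24.M12.gt4 = f} := ⟨_, by first | (delta Cfsg.Agent.H24.M12.gt4; (try delta Cfsg.Agent.H24.M12.gt4.match_1); (try rewrite [Cfsg.Agent.LsF.instDecEq_eq, Cfsg.Agent.LsF.dite_eq]); exact rfl) | exact rfl⟩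
private noncomputable def _root_.Cfsg.Agent.LsF.fb95e46_19 : {f // @Cfsg.Agent.H24.M12.aw = f} := ⟨_, by first | (delta Cfsg.Agent.H24.M12.aw List.brecOn List.brecOn.go Cfsg.Agent.H24.M12.aw._f; rewrite [Cfsg.Agent.LsF.fb95e46_17.2, Cfsg.Agent.LsF.fb95e46_18.2]; (try delta Cfsg.Agent.H24.M12.aw.match_1); (try delta List.casesOn); first | dsimp -zeta only | exact rfl) | exact rfl⟩
private noncomputable def _root_.Cfsg.Agent.LsF.fb95e46_20 : {f // @Cfsg.Agent.H243.RIM.MTw.fxw = f} := ⟨_, by first | (delta Cfsg.Agent.H243.RIM.MTw.fxw; rewrite [Cfsg.Agent.LsF.fb95e46_19.2, Cfsg.Agent.LsF.finFintype_eq, Cfsg.Agent.LsF.fcard_eq, Cfsg.Agent.LsF.ffilter_eq, Cfsg.Agent.LsF.instDecEq_eq]; exact rfl) | exact rfl⟩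
private noncomputable def _root_.Cfsg.Agent.LsF.fb95e46_21 : {f // @Cfsg.Agent.H243.RIM.MTw.frw = f} := ⟨_, by first | (delta Cfsg.Agent.H243.RIM.MTw.frw; rewrite [Cfsg.Agent.LsF.fb95e46_19.2, Cfsg.Agent.LsF.nmul_pat, Cfsg.Agent.LsF.ndiv_pat, Cfsg.Agent.LsF.finFintype_eq, Cfsg.Agent.LsF.fcard_eq, Cfsg.Agent.LsF.ffilter_eq, Cfsg.Agent.LsF.instDecEq_eq]; exact rfl) | exact rfl⟩
private noncomputable def _root_.Cfsg.Agent.LsF.fb95e46_22 : {f // @Cfsg.Agent.H24.M12.rpt = f} := ⟨_, by first | (delta Cfsg.Agent.H24.M12.rpt Nat.brecOn.go Nat.brecOn Cfsg.Agent.H24.M12.rpt._f; rewrite [Cfsg.Agent.LsF.lappend_pat]; (try delta Cfsg.Agent.H24.M12.rpt.match_1); (try delta Nat.casesOn); first | dsimp -zeta only | exact rfl) | exact rfl⟩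
theorem sd_ok : ∀ k < 15, (fxw (RW k) : ℤ) - frw (RW k) = rv sd 0 (tk k) ∧
    (fxw (nw ++ RW k) : ℤ) - frw (nw ++ RW k) = -rv sd 0 (tk k) ∧
    (fxw (rpt 3 (RW k)) : ℤ) - frw (rpt 3 (RW k)) = rv sd 0 (tk k) ^ 3 + 3 * rv sd 1 (tk k) := by (refine of_decide_eq_true ?_; (try (rewrite [Cfsg.Agent.LsF.fb95e46_20.2, Cfsg.Agent.LsF.fb95e46_6.2, Cfsg.Agent.LsF.fb95e46_21.2, Cfsg.Agent.LsF.fb95e46_16.2, Cfsg.Agent.LsF.fb95e46_22.2, Cfsg.Agent.LsF.iadd_pat, Cfsg.Agent.LsF.imul_pat, Cfsg.Agent.LsF.isub_pat, Cfsg.Agent.LsF.ineg_pat, Cfsg.Agent.LsF.icast_pat, Cfsg.Agent.LsF.lappend_pat, Cfsg.Agent.LsF.instIDecEq_eq, Cfsg.Agent.LsF.dAnd_eq, Cfsg.Agent.LsF.dBallLT_eq, Cfsg.Agent.LsF.decide_eq])); decide +kernel)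

theorem ch_rp {k : ℕ} (h : k < 15) : ch (rp k) = rv sd 0 (tk k) := by rw [rp, ch_el, (sd_ok k h).1]

theorem dl_rp {k : ℕ} (h : k < 15) : dl (rp k) = rv sd 1 (tk k) := by
  rw [dl, ch_rp h, rp, ← el_rpt, ch_el, (sd_ok k h).2.2]
  push_cast
  ring

theorem neg_isConj {g h : Γ} (e : IsConj g h) : IsConj (neg * g) (neg * h) := by
  obtain ⟨c, rfl⟩ := isConj_iff.1 e
  exact isConj_iff.2 ⟨c, by rw [← mul_assoc, dc.comm, mul_assoc, mul_assoc, mul_assoc]⟩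

theorem ch_odd (g : Γ) : ch (neg * g) = -ch g := by
  refine cls_ind (P := fun g => ch (neg * g) = -ch g) (fun g h e h1 => ?_) (fun g h => ?_) (fun k hk => ?_) g
  · rw [classFunction_apply_eq (gen_classFunction gen_ch) e,
      classFunction_apply_eq (gen_classFunction gen_ch) (neg_isConj e), h1]
  · rw [← mul_assoc, dc.sq, one_mul, h, neg_neg]
  · rw [ch_rp hk, rp, ← H24.M12.el_nw, ← el_append, ch_el, (sd_ok k hk).2.1, Int.cast_neg]

theorem dl_odd (g : Γ) : dl (neg * g) = -dl g := by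
  rw [dl, dl, (show Commute neg g from (dc.comm g).symm).mul_pow, pow_succ', sq, dc.sq, mul_one, ch_odd, ch_odd]
  ring

theorem zero_of_odd {f : Γ → ℂ} (h : IsGeneralizedCharacter Γ f) (h1 : ∀ g, f (neg * g) = -f g) {x : Γ}
    (e : IsConj x (neg * x)) : f x = 0 := by
  have h2 := (classFunction_apply_eq (gen_classFunction h) e).trans (h1 x)
  linear_combination h2 / 2

include hT in
theorem good {k : ℕ} (h : k ∈ [0, 1, 2, 3, 7, 8, 9, 10, 11, 12, 14]) : ¬ IsConj (rp k) (neg * rp k) := fun e => by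
  rcases (by decide +kernel : ∀ k ∈ [0, 1, 2, 3, 7, 8, 9, 10, 11, 12, 14], k ∈ [9, 10, 11, 12, 14] ∨
    (k < 15 ∧ rv sd 1 (tk k) ≠ 0)) k h with h1 | ⟨h1, h2⟩
  · exact (dc.cyc (rp_cyc hT h1)).1 e
  · exact h2 (Int.cast_eq_zero.1 ((dl_rp h1).symm.trans (zero_of_odd gen_dl dl_odd e)))

theorem pw_ok : ∀ k < 15, ∀ i < 12, M12.dat.pwf (tk 13) i = tk k ∧ po k = 12 / Nat.gcd 12 i →
    ((k = 0 ∧ i = 0) ∨ (k = 2 ∧ (i = 4 ∨ i = 8))) ∨ k = 4 ∨ k = 5 ∨ k = 6 ∨ k = 13 := by decide +kernel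

include hT in
theorem exists_psi (hm : T.Mass) : ∃ ψ : Γ → ℂ, IsGeneralizedCharacter Γ ψ ∧ (∀ g, ψ (neg * g) = -ψ g) ∧
    ∀ k < 15, ψ (rp k) = rv sd 2 (tk k) := by
  have : Finite Spor.M12 := Finite.of_surjective _ dc.surj
  obtain ⟨s, hs⟩ := IsAlgClosed.exists_pow_nat_eq (-3 : ℂ) two_pos
  obtain ⟨ζ, hζ⟩ := IsAlgClosed.exists_pow_nat_eq ((1 + s) / 2) two_pos
  have h1 : ζ ^ 4 - ζ ^ 2 + 1 = 0 := by
    rw [show ζ ^ 4 = (ζ ^ 2) ^ 2 by ring, hζ]
    linear_combination hs / 4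
  have ho : orderOf (rp 13) = 12 := order_rp 13
  obtain ⟨ψ, h2, h3, h4⟩ := exists_ind_cyc (rp 13) (ζ := ζ) (by
    rw [ho]
    linear_combination (ζ ^ 2 + 1) * (ζ ^ 6 - 1) * h1)
  have h5 : rp 13 ^ 6 = neg := by rw [rp, ← el_rpt]; exact el_eq (by decide +kernel)
  have h6 : ∀ g, ψ (neg * g) = -ψ g := fun g => by
    rw [← h5, h4 6 (h5 ▸ dc.mem)]
    linear_combination (ζ ^ 2 + 1) * ψ g * h1
  have h7 := isGeneralizedCharacter_of_isCharacter h2
  refine ⟨ψ, h7, h6, fun k hk => ?_⟩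
  by_cases h8 : k = 4 ∨ k = 5 ∨ k = 6 ∨ k = 13
  · rw [zero_of_odd h7 h6 (neg_conj h8)]
    rcases h8 with rfl | rfl | rfl | rfl <;> exact (Int.cast_zero (R := ℂ)).symm
  have nc : ∀ i ∈ Finset.range 12, IsConj (rp k) (rp 13 ^ i) → (k = 0 ∧ i = 0) ∨ (k = 2 ∧ (i = 4 ∨ i = 8)) := by
    intro i hi e
    have h9 := TD.ty_isConj (T := T) (MonoidHom.map_isConj sg e)
    have h10 := order_conj e
    rw [map_pow, T.pow, hT 13 (by decide), hT k hk] at h9
    rw [order_rp ⟨k, hk⟩, orderOf_pow, ho] at h10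
    exact (pw_ok k hk i (Finset.mem_range.1 hi) ⟨h9, h10⟩).resolve_right h8
  rw [h3, ho]
  by_cases k0 : k = 0
  · subst k0
    rw [Finset.sum_eq_single 0 (fun i hi h => by exact if_neg fun e => by have := nc i hi e; omega) (by simp only [_root_.Finset.mem_range, _root_.Nat.ofNat_pos, _root_.not_true_eq_false, _root_.pow_zero, _root_.isConj_iff, _root_.conj_eq_one_iff, _root_.exists_const, _root_.ite_eq_right_iff, _root_.one_ne_zero, _root_.imp_false, _root_.IsEmpty.forall_iff]),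
      if_pos (by exact IsConj.refl _), show centralizer ({rp 0} : Set Γ) = ⊤ from eq_top_iff.2 fun x _ =>
        mem_centralizer_singleton_iff.2 ((mul_one x).trans (one_mul x).symm), card_top, card_G]
    change _ = ((15840 : ℤ) : ℂ)
    norm_num
  by_cases k2 : k = 2
  · subst k2
    have h9 := One.card hm ⟨_, hT 2 hk, (Nat.mul_le_mul_left _ (rp_cent hk k0)).trans (hm.1.ge.trans' (by decide))⟩
      (hT 2 hk)
    change 2640 * _ = 95040 at h9
    rw [Finset.sum_eq_add_of_mem 4 8 (by simp) (by simp) (by simp) (fun i hi h => by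
        exact if_neg fun e => by have := nc i hi e; omega), dc.card_cent (good hT (by decide)),
      show Nat.card (centralizer ({sg (rp 2)} : Set Spor.M12)) = 36 by omega, rp, rp, ← el_rpt, ← el_rpt,
      if_pos (conj_of (c := [0, 0, 0, 1, 0, 1, 0, 0, 1, 2]) (by decide +kernel)),
      if_pos (conj_of (c := [0, 0, 0, 1, 0, 1, 0, 0, 1, 2, 1]) (by decide +kernel))]
    change _ = ((-6 : ℤ) : ℂ)
    push_cast
    linear_combination 6 * (ζ ^ 4 + ζ ^ 2 + 1) * h1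
  rw [Finset.sum_eq_zero (fun i hi => by exact if_neg fun e => by have := nc i hi e; omega), mul_zero, mul_zero,
    (by decide +kernel : ∀ k < 15, k ≠ 0 → k ≠ 2 → rv sd 2 (tk k) = 0) k hk k0 k2, Int.cast_zero]

/-! ### the rows -/

/-- the rows -/
def rows : List (List ℤ) := [[12, 0, 4, 0, 3, 0, 0, 2, 0, -1, 0, 0, 0, 1], [32, 0, 0, 2, -4, 0, 0, 2, 0, 0, 0, 0, 0, -1],
  [120, 0, 8, 0, 3, 0, 0, 0, 0, 1, 0, 0, 0, -1], [20, 0, -4, -4, 2, 0, 0, 0, 0, -2, 0, 0, 0, -2],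
  [88, 0, 8, 4, -2, 0, 0, -2, 0, -2, 0, 0, 0, 0], [220, 0, -12, 4, 4, 0, 0, 0, 0, 0, 0, 0, 0, 0],
  [320, 0, 0, -4, -4, 0, 0, 0, 0, 0, 0, 0, 0, 1]]

/-- the norms -/
def mm (j : ℕ) : ℕ := if j < 3 then 1 else 2

/-- the degrees -/
def bb (j : ℕ) : ℤ := [12, 32, 120, 10, 44, 110, 160].getD j 0

theorem prog_ok : runP (M12.rA ++ M12.rB) [(0, 1, [(-1, 0)]), (9, 0, [(-1, 2), (-1, 1), (-2, 0)]), (2, 3, [(-1, 0)]),
    (3, 4, [(-2, 2), (-1, 1)]), (4, 10, [(-1, 3), (-3, 1), (-2, 2)]), (5, 13, [(-1, 3)]),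
    (8, 0, [(-2, 6), (-2, 0), (-20, 5), (-2, 1), (-7, 2), (-18, 3), (-27, 4)])] sd
    (fun acc => rows.all acc.contains) = true := by decide +kernel

/-- the classes which are not conjugate to their negatives -/
def gk (i : Fin 11) : ℕ := [0, 1, 2, 3, 7, 8, 9, 10, 11, 12, 14].getD i 0

/-- **the faithful characters** -/
theorem en [Fintype Γ] {l : Γ → ℂ} (hl : Fl Γ l) : ∃ f ix, En (center Γ) l 7 0 mm (fun _ => 0) bb f ix := by
  have : Finite Spor.M12 := Finite.of_surjective _ dc.surj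
  have := Fintype.ofFinite Spor.M12
  obtain ⟨T, hm, hR, hT⟩ := tabG
  obtain ⟨ψ, p1, p2, p3⟩ := exists_psi hT hm
  let u : ℕ → Γ → ℂ := fun j => [ch, dl, ψ].getD j 0
  have u1 : ∀ j < 3, IsGeneralizedCharacter Γ (u j) ∧ (∀ g, u j (neg * g) = -u j g) ∧
      ∀ k < 15, u j (rp k) = rv sd j (tk k) := fun j hj => by
    interval_cases j
    exacts [⟨gen_ch, ch_odd, fun _ => ch_rp⟩, ⟨gen_dl, dl_odd, fun _ => dl_rp⟩, ⟨p1, p2, p3⟩]
  have t1 : T.ty 1 = 0 := (congrArg T.ty (map_one sg).symm).trans (hT 0 (by decide))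
  obtain ⟨s, σ, -, h1⟩ := exists_sg_two (T := T) (φ := sg) u (fun j hj => (u1 j hj).1)
    (fun j hj => lo_two dc.card hl dc.mem dc.ne (u1 j hj).2.1) (rv sd) (cls_ind (fun g h e h1 i hi j hj => by
      rw [classFunction_apply_eq (gen_classFunction (u1 i hi).1) e, classFunction_apply_eq (gen_classFunction (u1 j hj).1) e,
        h1 i hi j hj, TD.ty_isConj (MonoidHom.map_isConj sg e)]) (fun g h i hi j hj => by
      rw [(u1 i hi).2.1, (u1 j hj).2.1, neg_mul_neg, map_mul, dc.map, one_mul, h i hi j hj]) fun k hk i hi j hj => by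
      rw [(u1 i hi).2.2 k hk, (u1 j hj).2.2 k hk, hT k hk]) fun j hj => by
      rw [t1]
      exact (u1 j hj).2.2 0 (by decide)
  obtain ⟨acc, h2, h3⟩ := runP_spec ker_sg hR _ (fun v hv => by
    simp only [sd, List.mem_cons, List.not_mem_nil, or_false] at hv
    rcases hv with rfl | rfl | rfl
    exacts [h1 0 (by decide), h1 1 (by decide), h1 2 (by decide)]) prog_ok
  have h4 : ∀ j, OV T sg s l (rv rows j) :=
    OV.ntd fun v hv => h2 v (List.contains_iff_mem.1 (List.all_eq_true.1 h3 v hv))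
  have h5 := dc.le_card hl (fun i => rp (gk i)) (fun i => good hT (by revert i; decide)) fun i j hij e => by
    have h5 := TD.ty_isConj (T := T) e
    have h6 : ∀ i, gk i < 15 := by decide
    rw [hT _ (h6 j), hT _ (h6 i)] at h5
    rcases (by decide : ∀ i j, tk (gk j) = tk (gk i) → i = j ∨ (gk i = 11 ∧ gk j = 12) ∨ (gk i = 12 ∧ gk j = 11))
      i j h5 with h6 | h6 | h6
    · exact hij h6
    · exact rp_nc (h6.1 ▸ h6.2 ▸ e)
    · exact rp_nc (h6.1 ▸ h6.2 ▸ e.symm)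
  obtain ⟨μ, -, hμ⟩ := hl
  refine ⟨_, enum_cnt le_rfl μ hμ (fun j => sf T sg s (rv rows j)) (fun j _ => (h4 j).1) (fun j _ => (h4 j).2)
    (fun i hi j hj => ?_) (fun j => rv rows j 0) (fun j _ => ?_) bb (by decide +kernel) ?_ h5⟩
  · rw [inner_sf dc.surj σ, inner_of_ipF hm ((by decide +kernel : ∀ i < 7, ∀ j < 7,
      ipF M12.dat (rv rows i) (rv rows j) = M12.dat.N * gam mm (fun _ => 0) i j) i hi j hj)]
  · rw [sf, σ.one, map_one, t1, one_mul]
  · rw [dc.card, card_G]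
    decide +kernel

end Cfsg.Agent.MO.S.Mat
end

-- part: MO/S/Mat/Main
section
/-!
# MO, the Mathieu groups for `p = 3` (helper93)

`m11_1_3`, `m23_1_3`, `m24_1_3` (file `Loc`), `m12_1_3` (file `M12`) and `m12_2_3`.

* `al_ew` : an automorphism of `2.M12` over the outer automorphism of `M12` on words; `glob2` : it fixes three characters;
* `loc2` : the normaliser of a Sylow `3`-subgroup.
-/

set_option autoImplicit false
set_option maxRecDepth 100000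
set_option synthInstance.maxSize 2000

namespace Cfsg.Agent.MO.S

open Cfsg Subgroup Cfsg.Agent.MO.T Cfsg.Agent.TAB.Eng Cfsg.Agent.TAB.Sm2 Cfsg.Agent.TAB.Use Cfsg.Agent.MO.S.Cov2
open Cfsg.Agent.SporadicA.GolayBase Cfsg.Agent.SporadicA.GolayPerm Cfsg.Agent.SporadicStructure.M24El
open Cfsg.Agent.H932.Mt (Γ neg)
open Cfsg.Agent.H24.M12 (RW rp rpt nw eqw el_eq el_append el_rpt el_cons neg_conj iw el_iw el_il aw el_val eqw_of_el)
open Cfsg.Agent.H243.RIM.MTw (card_G)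
open Cfsg.Agent.MK.S1 (fin24)
open Cfsg.Agent.Characters Cfsg.Agent.Characters.Core

namespace Mat

local notation "ew" => H932.Mt.el
local notation "sg" => H932.Mt.sig

/-! ### the automorphism -/

/-- the images of the letters -/
def sb : ℕ → List ℕ
  | 0 => [2]
  | 1 => [2, 2, 2, 2, 1, 0, 0, 0, 0]
  | 2 => iw [2]
  | _ => iw [2, 2, 2, 2, 1, 0, 0, 0, 0]

/-- `α` lies over the conjugation with `uu` -/
structure Al (α : MulAut Γ) : Prop where
  cen : α neg = neg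
  ind : ∀ x, M12.inc (sg (α x)) = el uu * M12.inc (sg x) * (el uu)⁻¹

variable {α : MulAut Γ} (h : Al α) {l : Γ → ℂ}

include h in
theorem al_or {u w : List ℕ} (e : pcomp uu (pw u) = pcomp (pw w) uu) : α (ew u) = ew w ∨ α (ew u) = ew (nw ++ w) := by
  rw [el_append]
  refine dc.eq_or (M12.inc_inj ?_)
  rw [h.ind, (inc_ew u).2, (inc_ew w).2, ← el_pcomp ok_uu (inc_ew u).1, e, el_pcomp (inc_ew w).1 ok_uu,
    mul_inv_cancel_right]

include h in
theorem al_ew (w : List ℕ) : α (ew w) = ew (w.flatMap sb) := by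
  have h0 : α (ew [0]) = ew [2] := (al_or h (by decide +kernel)).resolve_right fun e => by
    have h1 := congrArg (· ^ 11) e
    simp only [← map_pow, ← el_rpt] at h1
    exact absurd (eqw_of_el (u := nw) (h.cen.symm.trans h1)) (by decide +kernel)
  have h1 : α (ew [1]) = ew (sb 1) := (al_or h (by decide +kernel)).resolve_right fun e => by
    have h1 : α (ew (rpt 5 ([1] ++ rpt 5 [0]))) = ew (rpt 5 ((nw ++ sb 1) ++ rpt 5 [2])) := by
      rw [el_rpt, el_rpt, el_append, el_append, el_rpt, el_rpt, map_pow, map_mul, map_pow, e, h0]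
    rw [el_eq (w := []) (by decide +kernel), show α (ew []) = ew [] from map_one α] at h1
    exact absurd (eqw_of_el h1) (by decide +kernel)
  induction w with
  | nil => exact map_one α
  | cons i w ih =>
    rw [el_cons, map_mul, ih, List.flatMap_cons, el_append]
    congr 1
    match i with
    | 0 => exact h0
    | 1 => exact h1
    | 2 => exact (congrArg α (el_il 0)).trans (by rw [map_inv, h0, sb, el_iw])
    | _ + 3 => exact (congrArg α (el_il 1)).trans (by rw [map_inv, h1, ← el_iw]; rfl)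

/-- the images of the representatives -/
def ak (k : ℕ) : List ℕ := [[], RW 1, RW 2, RW 3, [], [], [], RW 7, RW 8, nw ++ RW 10, nw ++ RW 9, RW 12, RW 11, [],
  nw ++ RW 14].getD k []

/-- conjugating words -/
def aw' (k : ℕ) : List ℕ := [[], [0, 0, 0, 0], [1, 0, 0, 0], [2, 1, 2, 1, 2, 1, 2, 2, 2, 1, 0], [], [], [],
  [0, 1, 0, 0, 0, 1, 0, 0, 0, 1, 0, 1, 0], [1, 0, 1, 0, 0, 1, 2, 2, 1, 2, 1, 0, 0], [0, 0, 0, 0, 1, 2, 2],
  [0, 0, 0, 0, 0, 1, 2, 2, 2], [], [], [], [0, 0, 0, 1, 0, 0, 1, 2, 2, 1]].getD k []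

private noncomputable def _root_.Cfsg.Agent.LsF.fb95e46_23 : {f // @Cfsg.Agent.H24.M12.allB = f} := ⟨_, by first | (delta Cfsg.Agent.H24.M12.allB Nat.brecOn.go Nat.brecOn Cfsg.Agent.H24.M12.allB._f; rewrite [Cfsg.Agent.LsF.and_eq]; (try delta Cfsg.Agent.H24.M12.allB.match_1); (try delta Nat.casesOn); first | dsimp -zeta only | exact rfl) | exact rfl⟩
private noncomputable def _root_.Cfsg.Agent.LsF.fb95e46_24 : {f // @Cfsg.Agent.H24.M12.eqw = f} := ⟨_, by first | (delta Cfsg.Agent.H24.M12.eqw; rewrite [Cfsg.Agent.LsF.fb95e46_23.2, Cfsg.Agent.LsF.fb95e46_19.2, Cfsg.Agent.LsF.nmul_pat]; exact rfl) | exact rfl⟩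
private noncomputable def _root_.Cfsg.Agent.LsF.fb95e46_25 : {f // @Cfsg.Agent.MO.S.Mat.aw' = f} := ⟨_, by first | (delta Cfsg.Agent.MO.S.Mat.aw'; rewrite [Cfsg.Agent.LsF.getD_eq]; exact rfl) | exact rfl⟩
private noncomputable def _root_.Cfsg.Agent.LsF.fb95e46_26 : {f // @Cfsg.Agent.H24.M12.il = f} := ⟨_, by first | (delta Cfsg.Agent.H24.M12.il; (try delta Cfsg.Agent.H24.M12.gt4.match_1); (try rewrite [Cfsg.Agent.LsF.instDecEq_eq, Cfsg.Agent.LsF.dite_eq]); exact rfl) | exact rfl⟩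
private noncomputable def _root_.Cfsg.Agent.LsF.fb95e46_27 : {f // @Cfsg.Agent.H24.M12.iw = f} := ⟨_, by first | (delta Cfsg.Agent.H24.M12.iw; rewrite [Cfsg.Agent.LsF.fb95e46_26.2, Cfsg.Agent.LsF.map_eq, Cfsg.Agent.LsF.reverse_eq]; exact rfl) | exact rfl⟩
private noncomputable def _root_.Cfsg.Agent.LsF.fb95e46_28 : {f // @Cfsg.Agent.MO.S.Mat.sb = f} := ⟨_, by first | (delta Cfsg.Agent.MO.S.Mat.sb; rewrite [Cfsg.Agent.LsF.fb95e46_27.2]; (try delta Cfsg.Agent.MO.S.Mat.g4.match_1); (try rewrite [Cfsg.Agent.LsF.instDecEq_eq, Cfsg.Agent.LsF.dite_eq]); exact rfl) | exact rfl⟩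
private noncomputable def _root_.Cfsg.Agent.LsF.fb95e46_29 : {f // @Cfsg.Agent.MO.S.Mat.ak = f} := ⟨_, by first | (delta Cfsg.Agent.MO.S.Mat.ak; rewrite [Cfsg.Agent.LsF.fb95e46_6.2, Cfsg.Agent.LsF.lappend_pat, Cfsg.Agent.LsF.getD_eq]; exact rfl) | exact rfl⟩
include h in
theorem al_rp {k : ℕ} (hk : k ∈ [0, 1, 2, 3, 7, 8, 9, 10, 11, 12, 14]) : IsConj (α (rp k)) (ew (ak k)) := by
  rw [rp, al_ew h]
  exact conj_of ((by (refine of_decide_eq_true ?_; (try (rewrite [Cfsg.Agent.LsF.fb95e46_24.2, Cfsg.Agent.LsF.fb95e46_25.2, Cfsg.Agent.LsF.fb95e46_28.2, Cfsg.Agent.LsF.fb95e46_6.2, Cfsg.Agent.LsF.fb95e46_29.2, Cfsg.Agent.LsF.lappend_pat, Cfsg.Agent.LsF.flatMap_eq, Cfsg.Agent.LsF.dBoolEq_eq, Cfsg.Agent.LsF.dBAll_eq, Cfsg.Agent.LsF.decide_eq])); decide +kernel) : ∀ k ∈ [0, 1, 2, 3, 7, 8, 9, 10, 11, 12, 14],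
    eqw (aw' k ++ (RW k).flatMap sb) (ak k ++ aw' k) = true) k hk)

/-- the contributions of the types -/
def fv (t : ℕ) : ℤ := [0, 0, 0, 0, 0, 0, 0, 0, 0, 0, 8, 8, 20, 11].getD t 0

include h in
theorem pp_diff [Fintype (Ir (center Γ) l)] (hl : Fl Γ l) {T : TD Spor.M12 M12.dat}
    (hT : ∀ k < 15, T.ty (sg (rp k)) = tk k) (x : Γ) :
    PP (center Γ) l x x - PP (center Γ) l (α x) x = fv (T.ty (sg x)) := by
  refine cls_ind (P := fun x => PP (center Γ) l x x - PP (center Γ) l (α x) x = fv (T.ty (sg x)))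
    (fun g g' e h1 => ?_) (fun g h1 => ?_) (fun k hk => ?_) x
  · rw [PP_congr e e, PP_congr (g := α g) (g' := α g') (α.toMonoidHom.map_isConj e) e, ← TD.ty_isConj (MonoidHom.map_isConj sg e)]
    exact h1
  · rw [map_mul, h.cen, dc.PP_left hl, dc.PP_left hl, dc.PP_right hl, dc.PP_right hl, neg_neg, neg_neg, map_mul, dc.map,
      one_mul, h1]
  rw [hT k hk]
  have h1 : ∀ k ∈ [9, 10, 11, 12, 14], PP (center Γ) l (rp k) (rp k) = M12.dat.ord (T.ty (sg (rp k))) := fun k hk => by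
    rw [dc.PP_self hl (rp_cyc hT hk), T.ord]
  have h2 : ∀ i < 15, ∀ j < 15, tk i ≠ tk j → PP (center Γ) l (rp j) (rp i) = 0 := fun i hi j hj e =>
    dc.PP_zero hl fun e' => e (by rw [← hT i hi, ← hT j hj, TD.ty_isConj e'])
  rcases (by decide +kernel : ∀ k < 15, (k = 4 ∨ k = 5 ∨ k = 6 ∨ k = 13) ∨ (k ∈ [0, 1, 2, 3, 7, 8, 9, 10, 11, 12, 14] ∧
    ((ak k = RW k ∧ fv (tk k) = 0) ∨ k = 9 ∨ k = 10 ∨ k = 11 ∨ k = 12 ∨ k = 14))) k hk with h3 | ⟨h3, h4⟩
  · rw [dc.PP_neg hl _ (neg_conj h3), dc.PP_neg hl _ (neg_conj h3), sub_zero]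
    rcases h3 with rfl | rfl | rfl | rfl <;> exact (Int.cast_zero (R := ℂ)).symm
  rw [PP_congr (al_rp h h3) (IsConj.refl _)]
  rcases h4 with ⟨h4, h5⟩ | rfl | rfl | rfl | rfl | rfl
  · rw [h4, h5, Int.cast_zero]
    exact sub_self _
  · rw [show ew (ak 9) = neg * rp 10 from el_append nw _, dc.PP_left hl, h2 9 hk 10 (by decide) (by decide),
      h1 9 (by decide), hT 9 hk]
    change ((8 : ℕ) : ℂ) - _ = (8 : ℤ)
    norm_num
  · rw [show ew (ak 10) = neg * rp 9 from el_append nw _, dc.PP_left hl, h2 10 hk 9 (by decide) (by decide),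
      h1 10 (by decide), hT 10 hk]
    change ((8 : ℕ) : ℂ) - _ = (8 : ℤ)
    norm_num
  · rw [show ew (ak 11) = rp 12 from rfl, dc.PP_zero hl fun e => rp_nc e.symm, h1 11 (by decide), hT 11 hk]
    change ((11 : ℕ) : ℂ) - _ = (11 : ℤ)
    norm_num
  · rw [show ew (ak 12) = rp 11 from rfl, dc.PP_zero hl rp_nc, h1 12 (by decide), hT 12 hk]
    change ((11 : ℕ) : ℂ) - _ = (11 : ℤ)
    norm_num
  · rw [show ew (ak 14) = neg * rp 14 from el_append nw _, dc.PP_left hl, h1 14 (by decide), hT 14 hk]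
    change ((10 : ℕ) : ℂ) - -((10 : ℕ) : ℂ) = (20 : ℤ)
    norm_num

theorem glob1 (hl : Fl Γ l) : kk 3 ⊤ (center Γ) l = 9 := by
  have := Fintype.ofFinite Γ
  obtain ⟨f, ix, hE⟩ := en hl
  rw [hE.kk]
  decide +kernel

include h in
theorem glob2 (hl : Fl Γ l) : fA 3 l α = 3 := by
  have := Fintype.ofFinite Γ
  have : Finite Spor.M12 := Finite.of_surjective _ dc.surj
  have := Fintype.ofFinite Spor.M12
  have := finite_irr (G := Γ)
  have := Fintype.ofFinite (Ir (center Γ) l)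
  obtain ⟨f, ix, hE⟩ := en hl
  obtain ⟨T, hm, -, hT⟩ := tabG
  have h1 := card_fix (Z := center Γ) (l := l) α
  have h2 := card_fix (Z := center Γ) (l := l) 1
  rw [hE.card (r := fun θ => ∀ x, θ ((1 : MulAut Γ) x) = θ x) (fun _ => True) fun _ => iff_of_true (fun _ => rfl) trivial,
    show Finset.sum _ _ = 11 by decide +kernel] at h2
  have h3 := (H829.GowDesc.classInner_comp_surj sg dc.surj _ _).trans
    (inner_of_ipF hm (f := fv) (g := fun _ => 1) (z := 6) (by decide +kernel))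
  simp only [classInner_def, Function.comp, Int.cast_one, map_one, mul_one, ← pp_diff h hl hT, Finset.sum_sub_distrib,
    mul_sub, ← h1] at h3
  have h4 := hE.card (r := fun θ => (∀ x, θ (α x) = θ x) ∧ 3 ∣ charDegree θ) (fun y => y = 0 ∨ y = 2) fun χ => by
    rw [hE.deg]
    refine ⟨fun e => (by decide : ∀ y < 7 + 0, 3 ∣ (sdeg 7 (fun _ => 0) bb y).natAbs → y = 0 ∨ y = 2) _ (hE.lt χ) e.2,
      fun e => ⟨?_, by rcases e with e | e <;> rw [e] <;> decide⟩⟩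
    let ψ : Ir (center Γ) l := ⟨⟨_, ODD.Red.isIrr_comp' α.toMonoidHom α.surjective χ.1.2⟩, fun z hz => by
      change (χ.1 : Γ → ℂ) (α z) = _ * (χ.1 : Γ → ℂ) (α 1)
      rw [map_one, ← χ.2 z hz]
      rcases dc.all z hz with rfl | rfl
      exacts [by rw [map_one], by rw [h.cen]]⟩
    have h5 : charDegree (ψ.1 : Γ → ℂ) = charDegree (χ.1 : Γ → ℂ) := ODD.Red.charDegree_congr (congrArg _ (map_one α))
    rw [hE.deg, hE.deg] at h5
    obtain ⟨h6, h7⟩ := (by decide : ∀ y < 7 + 0, ∀ x < 7 + 0, y = 0 ∨ y = 2 → (sdeg 7 (fun _ => 0) bb x).natAbs =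
      (sdeg 7 (fun _ => 0) bb y).natAbs → x = y ∧ mlt 7 mm (fun _ => 0) y = 1) _ (hE.lt χ) _ (hE.lt ψ) e h5
    have h8 := (Nat.card_eq_one_iff_unique.1 ((hE.cnt _ (hE.lt χ)).trans h7)).1.elim ⟨ψ, h6⟩ ⟨χ, rfl⟩
    exact congrFun (congrArg (fun θ : {θ // ix θ = ix χ} => (θ.1.1 : Γ → ℂ)) h8)
  have : Finite {θ : Γ → ℂ // IsIrrCharacter Γ θ ∧ (∀ z ∈ center Γ, θ z = l z * θ 1) ∧ ∀ x, θ (α x) = θ x} :=
    Finite.of_injective (fun θ => (⟨θ.1, θ.2.1⟩ : IrrCharacter Γ)) fun a b e => Subtype.ext (congrArg Subtype.val e :)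
  have h5 := card_split (fun θ : Γ → ℂ => IsIrrCharacter Γ θ ∧ (∀ z ∈ center Γ, θ z = l z * θ 1) ∧ ∀ x, θ (α x) = θ x)
    fun θ => 3 ∣ charDegree θ
  simp only [and_assoc] at h5
  rw [h4, show Finset.sum _ _ = 2 by decide +kernel] at h5
  rw [h5] at h3
  rw [fA, Nat.card_congr (Equiv.subtypeEquivRight (q := fun θ : Γ → ℂ => IsIrrCharacter Γ θ ∧
    (∀ z ∈ center Γ, θ z = l z * θ 1) ∧ (∀ x, θ (α x) = θ x) ∧ ¬ 3 ∣ charDegree θ) fun θ =>
      ⟨fun e => ⟨e.1.1, e.2.1, e.2.2, e.1.2⟩, fun e => ⟨⟨e.1, e.2.2.2⟩, e.2.1, e.2.2.1⟩⟩)]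
  apply Nat.cast_injective (R := ℂ)
  simp only [MulAut.one_apply] at h2
  push_cast at h2 h3 ⊢
  linear_combination -h2 - h3

/-! ### the normaliser -/

/-- the group generated by words -/
def Cw (L : List (List ℕ)) : Subgroup Γ := _root_.Subgroup.closure {g | ∃ w ∈ L, g = ew w}

/-- the generators of the Sylow subgroup -/
def wq : List (List ℕ) := [[0, 1, 2, 1, 2, 1, 2, 1, 0, 0, 1, 2, 1, 0, 0],
  [2, 2, 2, 2, 2, 1, 0, 1, 0, 1, 0, 1, 2, 2, 1, 0, 1, 0, 0], [1, 0, 0, 0, 1, 0, 1, 0, 1, 0, 0, 0, 0, 0, 0, 0, 1]]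

/-- the generators of a complement of the centre in the normaliser -/
def wm : List (List ℕ) := wq ++ [[1, 0, 0, 1, 0, 0, 0, 1, 2, 2, 1, 2, 1, 2, 2, 1, 0, 1],
  [1, 0, 1, 0, 1, 0, 0, 1, 2, 2, 2, 1, 2, 2, 2, 1, 0, 1]]

theorem map_Cw (L : List (List ℕ)) : ((Cw L).map sg).map M12.inc = Gp (L.map pw) := by
  rw [map_map, Cw, MonoidHom.map_closure]
  refine congrArg Subgroup.closure (Set.ext fun g => ⟨?_, ?_⟩)
  · rintro ⟨_, ⟨w, hw, rfl⟩, rfl⟩
    exact ⟨_, List.mem_map_of_mem hw, (inc_ew w).2⟩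
  · rintro ⟨_, hs, rfl⟩
    obtain ⟨w, hw, rfl⟩ := List.mem_map.1 hs
    exact ⟨_, ⟨w, hw, rfl⟩, (inc_ew w).2⟩

theorem neg_not : neg ∉ Cw wm := fun e => by
  have h1 : ∀ g ∈ Cw wm, ∀ k : Fin 24, (g.1.1 k).val ∈ [6, 14, 21] ↔ k.val ∈ [6, 14, 21] := fun g hg => by
    induction hg using closure_induction with
    | mem g hg =>
      obtain ⟨w, hw, rfl⟩ := hg
      simp only [el_val]
      exact (by decide +kernel : ∀ w ∈ wm, ∀ k : Fin 24, aw w k.val ∈ [6, 14, 21] ↔ k.val ∈ [6, 14, 21]) w hw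
    | one => exact fun _ => Iff.rfl
    | mul a b _ _ ha hb => exact fun k => (ha _).trans (hb k)
    | inv a _ ha => exact fun k => (ha _).symm.trans (by rw [show a.1.1 ((a⁻¹).1.1 k) = k from a.1.1.apply_symm_apply k])
  have h2 := h1 _ e 6
  rw [H932.Mt.neg_apply] at h2
  exact absurd h2 (by decide)

include h in
theorem al_Cw {L : List (List ℕ)} (e : ∀ w ∈ L, ∃ u ∈ L, eqw (w.flatMap sb) u = true ∨ eqw (w.flatMap sb) (u ++ u) = true)
    (x : Γ) : α x ∈ Cw L ↔ x ∈ Cw L := by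
  have h1 : (Cw L).map α.toMonoidHom = Cw L := eq_of_le_of_card_ge (map_le_iff_le_comap.2 ((closure_le _).2 (by
    rintro _ ⟨w, hw, rfl⟩
    obtain ⟨u, hu, h2⟩ := e w hw
    have h3 : ew u ∈ Cw L := subset_closure (k := {g | ∃ w ∈ L, g = ew w}) ⟨u, hu, rfl⟩
    change α (ew w) ∈ Cw L
    rw [al_ew h]
    rcases h2 with h2 | h2 <;> rw [el_eq h2]
    exacts [h3, el_append u u ▸ mul_mem h3 h3]))) (card_map_of_injective α.injective).ge
  exact (h1 ▸ mem_map_iff_mem (f := α.toMonoidHom) α.injective :)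

private noncomputable def _root_.Cfsg.Agent.LsF.fb95e46_30 : {f // @Cfsg.Agent.SporadicStructure.M24El.prodW = f} := ⟨_, by first | (delta Cfsg.Agent.SporadicStructure.M24El.prodW List.brecOn List.brecOn.go Cfsg.Agent.SporadicStructure.M24El.prodW._f; rewrite [Cfsg.Agent.LsF.fb95e46_2.2, Cfsg.Agent.LsF.getD_eq]; (try delta Cfsg.Agent.SporadicStructure.M24El.prodW.match_1); (try delta List.casesOn); first | dsimp -zeta only | exact rfl) | exact rfl⟩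
private noncomputable def _root_.Cfsg.Agent.LsF.fb95e46_31 : {f // @Cfsg.Agent.MO.S.Mat.wds = f} := ⟨_, by first | (delta Cfsg.Agent.MO.S.Mat.wds; rewrite [Cfsg.Agent.LsF.lappend_pat, Cfsg.Agent.LsF.map_eq, Cfsg.Agent.LsF.foldr_eq, Cfsg.Agent.LsF.flatMap_eq, Cfsg.Agent.LsF.replicate_eq, Cfsg.Agent.LsF.range_eq]; exact rfl) | exact rfl⟩
private noncomputable def _root_.Cfsg.Agent.LsF.fb95e46_32 : {f // @Cfsg.Agent.MO.S.Mat.lst = f} := ⟨_, by first | (delta Cfsg.Agent.MO.S.Mat.lst; rewrite [Cfsg.Agent.LsF.fb95e46_30.2, Cfsg.Agent.LsF.fb95e46_31.2, Cfsg.Agent.LsF.map_eq]; exact rfl) | exact rfl⟩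
private noncomputable def _root_.Cfsg.Agent.LsF.fb95e46_33 : {f // @Cfsg.Agent.MO.S.Mat.Cl = f} := ⟨_, by first | (delta Cfsg.Agent.MO.S.Mat.Cl; rewrite [Cfsg.Agent.LsF.fb95e46_15.2, Cfsg.Agent.LsF.fb95e46_32.2, Cfsg.Agent.LsF.fb95e46_2.2, Cfsg.Agent.LsF.instNBEq_pat, Cfsg.Agent.LsF.and_eq, Cfsg.Agent.LsF.all_eq, Cfsg.Agent.LsF.contains_eq]; exact rfl) | exact rfl⟩
private noncomputable def _root_.Cfsg.Agent.LsF.fb95e46_34 : {f // @Cfsg.Agent.MO.S.Mat.wm = f} := ⟨_, by first | (delta Cfsg.Agent.MO.S.Mat.wm; rewrite [Cfsg.Agent.LsF.lappend_pat]; exact rfl) | exact rfl⟩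
private noncomputable def _root_.Cfsg.Agent.LsF.fb95e46_35 : {f // @Cfsg.Agent.MO.S.Mat.ky = f} := ⟨_, by first | (delta Cfsg.Agent.MO.S.Mat.ky; rewrite [Cfsg.Agent.LsF.fb95e46_1.2, Cfsg.Agent.LsF.map_eq]; exact rfl) | exact rfl⟩
theorem loc2 {Q : Sylow 3 Spor.M12} (hQ : (Q : Subgroup Spor.M12) = (Gp g27).comap M12.inc) :
    ∃ R : Sylow 3 Γ, (R : Subgroup Γ) = Cw wq ∧ ∀ (α : MulAut Γ) (β : MulAut Spor.M12), (∀ x, sg (α x) = β (sg x)) →
      (∀ x, α x ∈ Cw wq ↔ x ∈ Cw wq) → (∀ x, α x ∈ Cw wm ↔ x ∈ Cw wm) → ∀ l, Fl Γ l →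
        fB 3 (normalizer ((R : Subgroup Γ) : Set Γ)) l α = fN 3 (normalizer ((Q : Subgroup Spor.M12) : Set Spor.M12)) β := by
  have := fin24
  have h0 : Cw wq ≤ Cw wm := Subgroup.closure_mono fun _ ⟨w, hw, e⟩ => ⟨w, List.mem_append_left _ hw, e⟩
  have h1 : wq.map pw = g27 := by decide +kernel
  have h2 : (Cw wq).map sg = Q := by rw [hQ, ← h1, ← map_Cw, comap_map_eq_self_of_injective M12.inc_inj]
  have h3 : Nat.card (Cw wq) = 3 ^ 3 := by
    rw [← card27, ← h1, ← map_Cw, card_map_of_injective M12.inc_inj]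
    refine Nat.card_eq_of_bijective (MonoidHom.subgroupMap sg _) ⟨(injective_iff_map_eq_one _).2 fun g hg => ?_,
      MonoidHom.subgroupMap_surjective _ _⟩
    exact Subtype.ext ((H932.Mt.eq_of_sig (congrArg Subtype.val hg)).resolve_right fun e =>
      neg_not (e ▸ h0 g.2))
  have h4 := (Cw wq).card_mul_index
  rw [h3, card_G] at h4
  refine ⟨(IsPGroup.of_card h3).toSylow (by omega), rfl, fun α β h5 h6 h7 l hl => ?_⟩
  generalize hR : (IsPGroup.of_card h3).toSylow (by omega) = R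
  replace hR : (R : Subgroup Γ) = Cw wq := hR ▸ rfl
  have h8 := map_normalizer sg dc.surj R
  rw [hR, h2] at h8
  have h9 : Gp (wm.map pw) = (normalizer ((Q : Subgroup Spor.M12) : Set Spor.M12)).map M12.inc := by
    refine eq_of_le_of_card_ge ((closure_le _).2 ?_) ?_
    · rintro _ ⟨s, hs, rfl⟩
      rw [map_norm12 hQ]
      rcases (by decide +kernel : ∀ s ∈ wm.map pw, s ∈ g27 ∨ s ∈ n12) s hs with e | e
      · exact ⟨le_normalizer (g27_mem s e), le12 (g27_mem s e)⟩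
      · exact ⟨(mem_norm cl27 nr27 (n12_mem s e).1).2, (n12_mem s e).2⟩
    · rw [card_map_of_injective M12.inc_inj, (loc12 hQ).1, card_Gp (S := [0, 1, 2])
        (sp := [(0, 3), (1, 3), (2, 3), (3, 2), (4, 2)]) (by ((try (rewrite [Cfsg.Agent.LsF.fb95e46_33.2, Cfsg.Agent.LsF.fb95e46_4.2, Cfsg.Agent.LsF.fb95e46_34.2, Cfsg.Agent.LsF.map_eq])); decide +kernel)) (by decide) (by (refine of_decide_eq_true ?_; (try (rewrite [Cfsg.Agent.LsF.fb95e46_35.2, Cfsg.Agent.LsF.fb95e46_32.2, Cfsg.Agent.LsF.fb95e46_4.2, Cfsg.Agent.LsF.fb95e46_34.2, Cfsg.Agent.LsF.instDecEq_eq, Cfsg.Agent.LsF.map_eq, Cfsg.Agent.LsF.dNodup_eq, Cfsg.Agent.LsF.dListEq_eq, Cfsg.Agent.LsF.decide_eq])); decide +kernel))]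
      decide +kernel
  rw [hR, ← h8]
  refine dc.fB_split hl (fun g hg => ?_) neg_not h5 (fun x hx => mem_normalizer_iff.2 fun y => ?_) h7
  · obtain ⟨m, hm, e⟩ := (map_injective M12.inc_inj ((map_Cw wm).trans h9)).ge (h8.le (mem_map_of_mem sg hg))
    rcases dc.eq_or e with rfl | rfl
    exacts [Or.inl hm, Or.inr hm]
  · obtain ⟨y, rfl⟩ := α.surjective y
    rw [← map_inv, ← map_mul, ← map_mul, h6, h6]
    exact mem_normalizer_iff.1 hx y

theorem sm2 : Sm 3 Γ := by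
  have := fin24
  have := Finite.of_injective _ M12.inc_inj
  obtain ⟨β, hβ⟩ := exists_beta
  obtain ⟨Q, hQ⟩ := exists12
  obtain ⟨R, hR, h1⟩ := loc2 hQ
  obtain ⟨γ, hγ⟩ := (out2_of_index S2061.result).outC 2 Γ sg cv
  refine sm_of_counts γ hγ ⟨R, fun l hl => ?_⟩ fun α h2 h3 => ?_
  · rw [glob1 hl, ← fB_one, h1 1 1 (fun _ => rfl) (fun _ => Iff.rfl) (fun _ => Iff.rfl) l hl, fN_one, (loc12 hQ).2]
  obtain ⟨δ, hδ⟩ := MK.T.exists_ind sg dc.surj ker_sg α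
  obtain ⟨s, rfl | rfl⟩ := MK.T.out_cases S2061.result (glob12 hβ).1 δ
  · exact absurd (inn_of_ind cv fun x => (hδ x).symm) h3
  obtain ⟨x, hx⟩ := dc.surj s⁻¹
  have h4 : ∀ y, sg ((MulAut.conj x * α) y) = β (sg y) := fun y => by
    rw [MulAut.mul_apply, MulAut.conj_apply, map_mul, map_mul, map_inv, ← hδ, hx, MulAut.mul_apply, MulAut.conj_apply]
    group
  have h5 : Al (MulAut.conj x * α) := ⟨by
    rw [MulAut.mul_apply, h2 _ dc.mem, MulAut.conj_apply, dc.comm, mul_inv_cancel_right], fun y => by rw [h4, hβ]⟩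
  have h6 := al_Cw h5 (L := wq) (by decide +kernel)
  exact ⟨R, x, hR ▸ h6, fun l hl => by
    rw [h1 _ β h4 h6 (al_Cw h5 (by (refine of_decide_eq_true ?_; (try (rewrite [Cfsg.Agent.LsF.fb95e46_34.2, Cfsg.Agent.LsF.fb95e46_24.2, Cfsg.Agent.LsF.fb95e46_28.2, Cfsg.Agent.LsF.lappend_pat, Cfsg.Agent.LsF.flatMap_eq, Cfsg.Agent.LsF.dOr_eq, Cfsg.Agent.LsF.dBoolEq_eq, Cfsg.Agent.LsF.dBAll_eq, Cfsg.Agent.LsF.dBEx_eq, Cfsg.Agent.LsF.decide_eq])); decide +kernel))) l hl, fix12 hQ hβ, ← fA_conj_mul x, glob2 h5 hl]⟩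

end Mat

theorem m12_2_3 : SmC 3 2 Spor.M12 := fun _ _ _ _ v _ =>
  (iso_of_mult S2035.result Nat.prime_two (by decide) Mat.cv v).elim fun e _ => sm_congr e Mat.sm2

end Cfsg.Agent.MO.S
end

-- part: MO/S/Ru/Psi
section
/-!
# MO, the cover `2.Ru` : the character of degree `28` (helper45; the first lemmas are from `BZ/C5/Ru`, `H436/RuThree`)

* `Psi σ z ψ`, `exists_psi` : the character; `Psi.re2`, `Psi.odd` : the real part of its square, the values at the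
  elements of odd order.
-/

set_option autoImplicit false
set_option maxRecDepth 100000
set_option linter.unusedSectionVars false

namespace Cfsg.Agent.MO.S.Ru

open Cfsg Subgroup Finset Cfsg.Agent.TAB Cfsg.Agent.TAB.Eng Cfsg.Agent.TAB.Use Cfsg.Agent.TAB.Ru
open Cfsg.Agent.Characters.Core Cfsg.Agent.OddOrderCharacters.VChar
open Cfsg.Agent.SporadicB.RuOrder (H card_H)
open Cfsg.Agent.H300.Ru (va gc0 gc1 gc2 gc5)
open Cfsg.Agent.H289.Eight.RuDeg (chi q chi_one center_eq)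
open Cfsg.Agent.H289.Eight.SqIrr (symF altF irr_sq)
open scoped ComplexConjugate

theorem rows_virt : ∀ r ∈ rows, Virt T (nth r) := by
  have := finH
  have hs : ∀ v ∈ seeds, Virt T (nth v) := List.forall_mem_cons.2 ⟨virt_gc gc1, List.forall_mem_cons.2 ⟨virt_gc gc2,
    List.forall_mem_cons.2 ⟨virt_gc gc5, List.forall_mem_singleton.2
      (ON.virt_coad (k := 2) mass rat (virt_gc gc0) (by decide +kernel))⟩⟩⟩
  have h1 := Sm1.virt_five mass rfl hs 1 [1, 9, 14, 17, 18] (by decide) (by decide +kernel) ok_A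
  exact Sm1.virt_okC mass.1 (List.forall_mem_append.2 ⟨hs, List.forall_mem_singleton.2 h1⟩) ok_B

theorem tabH : Tab T RR := by
  have := finH
  refine Sm1.tab_of_cls mass (fun r hr => rows_virt _ (List.of_mem_zip hr).2) ok_R ?_
  have h := Nat.card_le_card_of_injective (fun j : Fin 36 => ConjClasses.mk (H300.Ru.R j))
    fun i j h => H300.Ru.nonconj i j (ConjClasses.mk_eq_mk_iff_isConj.1 h)
  rwa [Nat.card_eq_fintype_card, Fintype.card_fin] at h

theorem ty_one : T.ty 1 = 0 :=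
  (by decide +kernel : ∀ i < D.n, D.ord i = 1 → i = 0) _ (T.lt 1) ((T.ord 1).symm.trans orderOf_one)

theorem ty_inv (g : H) : T.ty g⁻¹ = T.ty g := by
  have := finH
  rw [← eq_inv_of_mul_eq_one_left (a := g ^ (orderOf g - 1)) (b := g)
    (by rw [← pow_succ, Nat.sub_add_cancel (orderOf_pos g), pow_orderOf_eq_one]), T.pow, T.ord]
  exact (by decide +kernel : ∀ i < D.n, D.pwf i (D.ord i - 1) = i) _ (T.lt g)

open Cfsg.Spor Cfsg.Agent.RuLat Cfsg.Agent.H289.Eight.RuRep in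
theorem chi_qi (g : fourRu) : ∃ a b : ℚ, chi g = a + b * Complex.I := by
  have h1 : chi g = ∑ q : RuIdx, (4 : ℂ)⁻¹ * GaussianInt.toComplex ((g.1 (E q) : RuVec) q) := by
    show LinearMap.trace ℂ V (rl g) = _
    rw [LinearMap.trace_eq_matrix_trace ℂ (Pi.basisFun ℂ RuIdx), Matrix.trace]
    refine Finset.sum_congr rfl fun q _ => ?_
    rw [Matrix.diag_apply, LinearMap.toMatrix_apply, Pi.basisFun_apply, rl_single, Pi.basisFun_repr, Pi.smul_apply,
      smul_eq_mul]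
    rfl
  rw [h1, ← Finset.mul_sum, ← map_sum, GaussianInt.toComplex_def]
  generalize (∑ q : RuIdx, (g.1 (E q) : RuVec) q) = w
  exact ⟨w.re / 4, w.im / 4, by push_cast; ring⟩

/-- the square of the absolute value -/
noncomputable def nn (t : ℕ) : ℤ := 1 + nth va t

/-- the symmetric square -/
noncomputable def sy (t : ℕ) : ℤ := nth (ntd rows [] 1) t

/-- twice the real part of the square -/
noncomputable def ww (t : ℕ) : ℤ := 2 * sy t + nth (ntd rows [] 22) t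

/-- the values at the elements of odd order -/
noncomputable def cc (t : ℕ) : ℤ := 2 * sy t - nn t

/-- the character of degree `28` -/
structure Psi {K : Type} [Group K] (σ : K →* H) (z : K) (ψ : K → ℂ) : Prop where
  surj : Function.Surjective σ
  ch : IsCharacter K ψ
  one : ψ 1 = 28
  cen : z ∈ center K
  ne : z ≠ 1
  zz : z * z = 1
  ker : ∀ y, σ y = 1 ↔ y = 1 ∨ y = z
  neg : ∀ g, ψ (z * g) = -ψ g
  sq : ∀ g, ψ g * conj (ψ g) = nn (T.ty (σ g))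
  qi : ∀ g, ∃ a b : ℚ, ψ g = a + b * Complex.I

variable {K : Type} [Group K] [Finite K] {σ : K →* H} {z : K} {ψ : K → ℂ}

theorem exists_psi (v : Cv 2 σ) : ∃ z ψ, Psi σ z ψ := by
  have := Fact.mk Nat.prime_two
  obtain ⟨φ, h1, h2⟩ := H300.RIM.exists_phi σ v.surj v.ker.le v.perf (v.ker ▸ v.card)
  obtain ⟨z, h0, hu⟩ := (Nat.card_eq_two_iff' (1 : center K)).1 v.card
  have hz : (z : K) * z = 1 := by
    have h3 := pow_card_eq_one' (x := z)
    rw [v.card, pow_two] at h3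
    exact congrArg Subtype.val h3
  have hn : (z : K) ≠ 1 := fun e => h0 (Subtype.ext e)
  have h3 : σ z = 1 := v.ker.ge z.2
  obtain ⟨e, he⟩ := center_eq (z := φ z) (by rw [← H300.RIM.ker_q, MonoidHom.mem_ker, h2, h3])
  have h4 : ∀ g, chi (φ (z * g)) = Complex.I ^ e * chi (φ g) := fun g => by
    rw [map_mul, he, H300.RIM.chi_scalar]
  have h5 : Complex.I ^ e = -1 := by
    have h6 := h4 z
    rw [hz, ← mul_one (z : K), h4, map_one, chi_one, ← mul_assoc] at h6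
    refine (mul_self_eq_one_iff.1 (mul_right_cancel₀ (by norm_num) (h6.symm.trans (one_mul _).symm))).resolve_left
      fun h7 => ?_
    obtain ⟨m, rfl⟩ := (Complex.isPrimitiveRoot_I.pow_eq_one_iff_dvd e).1 h7
    rw [pow_mul, H300.RIM.iz_pow_four, one_pow, ← map_one φ] at he
    exact hn (h1 he)
  refine ⟨z, chi ∘ φ, v.surj, isCharacter_comp φ (isCharacter_of_rep _), ?_, z.2, hn, hz, fun y => ⟨fun h => ?_, ?_⟩,
    fun g => ?_, fun g => ?_, fun g => chi_qi _⟩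
  · rw [Function.comp_apply, map_one, chi_one, Nat.cast_ofNat]
  · exact or_iff_not_imp_left.2 fun h6 =>
      congrArg Subtype.val (hu ⟨y, v.ker.le h⟩ fun h7 => h6 (congrArg Subtype.val h7))
  · rintro (rfl | rfl)
    exacts [map_one σ, h3]
  · rw [Function.comp_apply, h4, h5, neg_one_mul, Function.comp_apply]
  · rw [Function.comp_apply, H300.RIM.chi_sq, h2, nn, nth_eq]
    rfl

theorem inner_ty [Fintype K] (hs : Function.Surjective σ) {f g : ℕ → ℤ} {n : ℤ} (h : ipF D f g = D.N * n) :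
    classInner (fun x => (f (T.ty (σ x)) : ℂ)) (fun x => (g (T.ty (σ x)) : ℂ)) = n := by
  have := finH
  have := Fintype.ofFinite H
  rw [← inner_of_ipF mass h, ← H829.GowDesc.classInner_comp_surj σ hs]
  rfl

theorem Psi.kz (L : Psi σ z ψ) : σ z = 1 := (L.ker z).2 (Or.inr rfl)

theorem Psi.sqs (L : Psi σ z ψ) : (∀ g, symF ψ g = sy (T.ty (σ g))) ∧
    ∀ g, altF ψ g + conj (altF ψ g) = nth (ntd rows [] 22) (T.ty (σ g)) := by
  have := Fintype.ofFinite K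
  have := finH
  obtain ⟨h1, h2⟩ := irr_sq L.ch (by
    rw [funext L.sq]
    exact inner_ty L.surj (n := 2) (by decide +kernel)) (n := 28) (by norm_num) (L.one.trans (by norm_num))
  have h3 : ψ z = -ψ 1 := by rw [← L.neg, mul_one]
  obtain ⟨η, h4, h5⟩ := ODD.Red.exists_quot σ L.surj h1 fun y hy => by
    rcases (L.ker y).1 hy with rfl | rfl
    · rfl
    · rw [symF, symF, L.zz, h3, mul_one, neg_sq]
  obtain ⟨θ, h6, h7⟩ := ODD.Red.exists_quot σ L.surj h2 fun y hy => by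
    rcases (L.ker y).1 hy with rfl | rfl
    · rfl
    · rw [altF, altF, L.zz, h3, mul_one, neg_sq]
  obtain ⟨χ, hE, hR⟩ := tabH
  have d1 : η 1 = (406 : ℕ) := by
    rw [← map_one σ, h5, symF, mul_one, L.one]
    norm_num
  have d2 : θ 1 = (378 : ℕ) := by
    rw [← map_one σ, h7, altF, mul_one, L.one]
    norm_num
  obtain ⟨i, hi, rfl⟩ := hE.all η h4
  obtain ⟨j, hj, e1⟩ := hE.all θ h6
  obtain ⟨k, hk, e2⟩ := hE.all _ (isIrr_conj h6)
  obtain rfl : i = 1 := (by decide +kernel : ∀ i < RR.n, RR.d i = 406 → i = 1) i hi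
    (Nat.cast_injective (R := ℂ) ((hE.deg i hi).symm.trans d1))
  have h8 : ∀ i < RR.n, RR.d i = 378 → i = 22 ∨ i = 23 := by decide +kernel
  have h9 : ∀ g, symF ψ g = sy (T.ty (σ g)) := fun g => by
    have h9 := hR ([(1, 1)], ntd rows [] 1) (by decide +kernel) (σ g)
    rw [← nth_eq] at h9
    simpa [h5, sy] using h9
  have h10 : j ≠ k := by
    rintro rfl
    obtain ⟨x, hx⟩ := inh_of_mass mass (by decide +kernel) 22 (by decide)
    obtain ⟨g, rfl⟩ := L.surj x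
    have h11 : conj (altF ψ g) = altF ψ g := by rw [← h7, congrFun e2, e1]
    have h12 := h9 g
    have h13 := L.sq g
    rw [hx, show sy 22 = 0 by decide +kernel, symF] at h12
    rw [hx, show nn 22 = 2 by decide +kernel] at h13
    rw [show altF ψ g = ψ g ^ 2 by rw [altF]; push_cast at h12; linear_combination -h12] at h11
    obtain ⟨a, b, h14⟩ := L.qi g
    rw [h14] at h11 h13
    have h15 := congrArg Complex.im h11
    have h16 := congrArg Complex.re h13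
    simp [pow_two] at h15 h16
    have h17 : a * b = 0 := by exact_mod_cast (show (a : ℝ) * b = 0 by linarith only [h15])
    have h18 : a * a + b * b = 2 := Rat.cast_injective (α := ℝ) (by push_cast; exact h16)
    have h19 : ¬ IsSquare (2 : ℚ) := by
      rw [show (2 : ℚ) = (2 : ℕ) from rfl, Rat.isSquare_natCast_iff]
      exact Nat.prime_two.not_isSquare
    rcases mul_eq_zero.1 h17 with rfl | rfl
    · exact h19 ⟨b, by linarith only [h18]⟩
    · exact h19 ⟨a, by linarith only [h18]⟩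
  refine ⟨h9, fun g => ?_⟩
  have h11 := hR ([(22, 1), (23, 1)], ntd rows [] 22) (by decide +kernel) (σ g)
  rw [← nth_eq] at h11
  rw [← h11, ← h7, congrFun e2, e1]
  rcases h8 j hj (Nat.cast_injective (R := ℂ) ((hE.deg j hj).symm.trans (e1 ▸ d2))) with rfl | rfl <;>
    rcases h8 k hk (Nat.cast_injective (R := ℂ) ((hE.deg k hk).symm.trans
      ((congrFun e2 1).symm.trans (by rw [d2, map_natCast])))) with rfl | rfl
  · exact absurd rfl h10
  · simp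
  · simp [add_comm]
  · exact absurd rfl h10

theorem Psi.re2 (L : Psi σ z ψ) (g : K) : ψ g ^ 2 + conj (ψ g) ^ 2 = ww (T.ty (σ g)) := by
  have h1 := L.sqs.1 g
  have h2 := congrArg conj h1
  have h3 := L.sqs.2 g
  rw [map_intCast] at h2
  simp only [symF, altF, map_div₀, map_add, map_sub, map_pow, map_ofNat] at h1 h2 h3
  rw [ww]
  push_cast
  linear_combination h1 + h2 + h3

theorem Psi.odd (L : Psi σ z ψ) {s : K} (hs : ¬ 2 ∣ orderOf s) : ψ s = cc (T.ty (σ s)) := by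
  obtain ⟨m, hm⟩ : ∃ m, orderOf s + 1 = m + m := ⟨(orderOf s + 1) / 2, by omega⟩
  have h1 : s ^ m * s ^ m = s := by rw [← pow_add, ← hm, pow_succ, pow_orderOf_eq_one, one_mul]
  have h2 : D.ord (T.ty (σ (s ^ m))) % 2 = 1 := by
    have h3 := (orderOf_map_dvd σ (s ^ m)).trans (orderOf_pow_dvd (x := s) m)
    rw [T.ord] at h3
    by_contra h4
    exact hs ((Nat.dvd_of_mod_eq_zero (by omega)).trans h3)
  obtain ⟨h3, h4⟩ := (by decide +kernel : ∀ t < D.n, D.ord t % 2 = 1 → D.pwf t 2 = t ∧ ww t = 2 * nn t) _ (T.lt _) h2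
  have h5 := L.sqs.1 (s ^ m)
  have h6 := L.re2 (s ^ m)
  have h7 := L.sq (s ^ m)
  rw [← T.pow, ← map_pow, pow_two, h1] at h3
  rw [h4] at h6
  rw [symF, h1] at h5
  have h8 : ψ (s ^ m) - conj (ψ (s ^ m)) = 0 := pow_eq_zero_iff two_ne_zero |>.1 (by
    push_cast at h6
    linear_combination h6 - 2 * h7)
  rw [h3, cc]
  push_cast
  linear_combination 2 * h5 - h7 - ψ (s ^ m) * h8

omit [Finite K] in
/-- commuting elements -/
theorem Psi.comm (L : Psi σ z ψ) {g h : K} (h1 : σ h * σ g = σ g * σ h) (h2 : nn (T.ty (σ g)) ≠ 0) : h * g = g * h := by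
  rcases (L.ker (h * g * h⁻¹ * g⁻¹)).1 (by simp only [h1, _root_.map_mul, _root_.map_inv, _root_.mul_inv_cancel_right, _root_.mul_inv_cancel]) with e | e
  · rwa [mul_inv_eq_one, mul_inv_eq_iff_eq_mul] at e
  · have h3 := L.neg g
    rw [← e, inv_mul_cancel_right, isCharacter_isClassFunction L.ch] at h3
    have h4 := L.sq g
    rw [show ψ g = 0 by linear_combination h3 / 2, zero_mul] at h4
    exact absurd (by exact_mod_cast h4.symm) h2

end Cfsg.Agent.MO.S.Ru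
end

-- part: MO/S/Ru/Glob
section
/-!
# MO, the cover `2.Ru` : the degrees of the faithful characters (helper45)

The rows are `ψ * U + conj ψ * V + ε * P` with virtual characters `U, V, P` of `Ru`; `P` vanishes at the elements of even
order.  The rows 19, 20, 21 are twice an irreducible character.
-/

set_option autoImplicit false
set_option maxRecDepth 100000
set_option linter.unusedSectionVars false

namespace Cfsg.Agent.MO.S.Ru

open Cfsg Subgroup Finset Cfsg.Agent.TAB Cfsg.Agent.TAB.Eng Cfsg.Agent.TAB.Use Cfsg.Agent.TAB.Ru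
open Cfsg.Agent.Characters.Core Cfsg.Agent.OddOrderCharacters.VChar Cfsg.Agent.H447.CTab
open Cfsg.Agent.SporadicB.RuOrder (H card_H)
open scoped ComplexConjugate

/-- the degrees from orthogonal rows which span the faithful part of the regular character -/
theorem deg_rows {X : Type} [Group X] [Fintype X] {z : X} (hz : z ≠ 1) {k : ℕ} (f : ℕ → X → ℂ) (m b : ℕ → ℤ)
    (h0 : ∀ j < k, f j z = -f j 1) (hG : ∀ i < k, ∀ j < k, classInner (f i) (f j) = (if i = j then m i else 0 : ℤ))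
    (he : ∀ j < k, f j 1 = (b j * m j : ℤ)) (hN : 2 * ∑ j ∈ range k, b j * (b j * m j) = Nat.card X) {χ : X → ℂ}
    (h1 : χ z = -χ 1) {d : ℕ} (h2 : χ 1 = d) : ∑ j ∈ range k, b j * classInner (f j) χ = d := by
  classical
  obtain ⟨N, hN'⟩ : ∃ N, N = ∑ j ∈ range k, b j * (b j * m j) := ⟨_, rfl⟩
  let ρ : X → ℂ := fun g => if g = 1 then N else if g = z then -N else 0
  have h3 : ∀ φ : X → ℂ, φ z = -φ 1 → classInner φ ρ = φ 1 := fun φ h => by
    rw [classInner_def, Finset.sum_eq_add 1 z hz.symm (fun g _ hg => by simp [ρ, hg.1, hg.2]) (by simp only [_root_.Finset.mem_univ, _root_.not_true_eq_false, _root_.mul_eq_zero, _root_.map_eq_zero, _root_.IsEmpty.forall_iff]) (by simp),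
      inv_mul_eq_iff_eq_mul₀ card_ne_zero_complex, ← Int.cast_natCast, ← hN, ← hN', h]
    simp only [ρ, if_true, if_neg hz, map_neg, map_intCast]
    push_cast
    ring
  let R : X → ℂ := ∑ j ∈ range k, (b j : ℂ) • f j
  have hR : ∀ x, R x = ∑ j ∈ range k, ((b j : ℂ) • f j) x := fun x => Finset.sum_apply _ _ _
  have h4 : R 1 = N := by
    rw [hR, hN', Int.cast_sum]
    exact sum_congr rfl fun j hj => by rw [Pi.smul_apply, he j (mem_range.1 hj), smul_eq_mul, Int.cast_mul (b j) (_ * _)]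
  have h5 : R z = -R 1 := by
    rw [hR, hR, ← sum_neg_distrib]
    exact sum_congr rfl fun j hj => by rw [Pi.smul_apply, Pi.smul_apply, h0 j (mem_range.1 hj), smul_neg]
  have h6 : classInner R R = N := by
    rw [classInner_sum_left, hN', Int.cast_sum]
    refine sum_congr rfl fun i hi => ?_
    rw [classInner_smul_left, classInner_sum_right, sum_eq_single i (fun j hj hji => by
      rw [classInner_smul_right, hG i (mem_range.1 hi) j (mem_range.1 hj), if_neg hji.symm, Int.cast_zero, mul_zero])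
      fun h => absurd hi h, classInner_smul_right, hG i (mem_range.1 hi) i (mem_range.1 hi), if_pos rfl, map_intCast]
    push_cast
    rfl
  have h7 : R = ρ := sub_eq_zero.1 (classInner_self_eq_zero (by
    rw [classInner_sub_left, classInner_sub_right, classInner_sub_right, h6, ← classInner_conj_symm R ρ, h3 R h5, h4,
      h3 ρ (by simp [ρ, hz]), map_intCast]
    simp [ρ]))
  have h8 := congrArg (classInner · χ) h7
  simp only [R, classInner_sum_left, classInner_smul_left] at h8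
  rw [h8, ← classInner_conj_symm, h3 χ h1, h2, map_natCast]

/-- the coefficients of `U, V, P` -/
def cof : List (List (ℤ × ℕ) × List (ℤ × ℕ) × List (ℤ × ℕ)) := [
  ([(1, 0)], [], []),
  ([], [(1, 0)], []),
  ([(1, 5), (1, 11), (-1, 14), (1, 16), (1, 24), (-1, 27)], [(1, 3), (1, 4), (-1, 14), (-1, 23)], [(-1, 1), (-2, 2),
    (-1, 4), (-1, 5), (-1, 8), (-1, 10), (-2, 11), (-1, 12), (-1, 13), (1, 14), (-1, 16), (-1, 17), (-1, 18), (1, 19),
    (-2, 20), (1, 21), (-1, 22), (1, 23), (-1, 24), (1, 25)]),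
  ([(1, 4), (-1, 14), (1, 16), (1, 18), (1, 24), (-1, 27)], [(1, 3), (1, 5), (1, 11), (-1, 14), (-1, 18), (-1, 23)],
    [(-1, 1), (-2, 2), (-1, 4), (-1, 5), (-1, 8), (-1, 10), (-2, 11), (-1, 12), (-1, 13), (1, 14), (-1, 16), (-1, 17),
    (-1, 18), (1, 19), (-2, 20), (1, 21), (-1, 22), (1, 23), (-1, 24), (1, 25)]),
  ([(1, 3), (1, 4), (1, 11), (-1, 14), (1, 20), (-1, 26)], [(1, 4), (1, 11), (-1, 23)], [(-1, 1), (-2, 2), (-1, 4),
    (-1, 5), (-1, 8), (-1, 10), (-2, 11), (-1, 12), (-1, 13), (1, 14), (-1, 16), (-1, 17), (-1, 18), (1, 19), (-2,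
    20), (1, 21), (-1, 22), (1, 23), (-1, 24), (1, 25)]),
  ([(1, 4), (1, 11), (-1, 14), (1, 20), (-1, 26)], [(1, 3), (1, 4), (1, 11), (-1, 23)], [(-1, 1), (-2, 2), (-1, 4),
    (-1, 5), (-1, 8), (-1, 10), (-2, 11), (-1, 12), (-1, 13), (1, 14), (-1, 16), (-1, 17), (-1, 18), (1, 19), (-2,
    20), (1, 21), (-1, 22), (1, 23), (-1, 24), (1, 25)]),
  ([(-1, 3), (1, 18), (-1, 20)], [(1, 0), (-1, 2), (1, 7), (-1, 10), (-1, 11), (-1, 16), (1, 19), (1, 23)], [(1, 1),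
    (2, 2), (1, 4), (1, 5), (1, 8), (1, 10), (2, 11), (1, 12), (1, 13), (-1, 14), (1, 16), (1, 17), (1, 18), (-1, 19),
    (2, 20), (-1, 21), (1, 22), (-1, 23), (1, 24), (-1, 25)]),
  ([(1, 0), (-1, 2), (-1, 3), (1, 7), (-1, 20)], [(-1, 3), (1, 9), (-1, 11), (-1, 16), (1, 19), (1, 23)], [(1, 1), (2,
    2), (1, 4), (1, 5), (1, 8), (1, 10), (2, 11), (1, 12), (1, 13), (-1, 14), (1, 16), (1, 17), (1, 18), (-1, 19), (2,
    20), (-1, 21), (1, 22), (-1, 23), (1, 24), (-1, 25)]),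
  ([(1, 2)], [(-1, 1)], []),
  ([(-1, 1)], [(1, 2)], []),
  ([(1, 4), (-1, 6), (-1, 10), (1, 14)], [(-1, 3)], []),
  ([(1, 6), (1, 11), (-1, 14), (1, 16), (1, 24), (-1, 27)], [(1, 3), (1, 4), (-1, 14), (-1, 23)], [(-1, 1), (-2, 2),
    (-1, 4), (-1, 5), (-1, 8), (-1, 10), (-2, 11), (-1, 12), (-1, 13), (1, 14), (-1, 16), (-1, 17), (-1, 18), (1, 19),
    (-2, 20), (1, 21), (-1, 22), (1, 23), (-1, 24), (1, 25)]),
  ([(1, 3), (1, 4), (-1, 14), (1, 19), (1, 24), (-1, 27)], [(-1, 0), (1, 2), (1, 11), (-1, 14), (-1, 23)], [(-1, 1),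
    (-2, 2), (-1, 4), (-1, 5), (-1, 8), (-1, 10), (-2, 11), (-1, 12), (-1, 13), (1, 14), (-1, 16), (-1, 17), (-1, 18),
    (1, 19), (-2, 20), (1, 21), (-1, 22), (1, 23), (-1, 24), (1, 25)]),
  ([(-1, 4), (-1, 10), (-1, 11), (1, 14), (-1, 24), (1, 27)], [(-1, 4), (-1, 9), (1, 14), (1, 23)], [(1, 1), (2, 2),
    (1, 4), (1, 5), (1, 8), (1, 10), (2, 11), (1, 12), (1, 13), (-1, 14), (1, 16), (1, 17), (1, 18), (-1, 19), (2,
    20), (-1, 21), (1, 22), (-1, 23), (1, 24), (-1, 25)]),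
  ([(-1, 11), (1, 14), (-1, 20), (1, 26)], [(-1, 3), (-1, 4), (-1, 11), (1, 23)], [(1, 1), (2, 2), (1, 4), (1, 5), (1,
    8), (1, 10), (2, 11), (1, 12), (1, 13), (-1, 14), (1, 16), (1, 17), (1, 18), (-1, 19), (2, 20), (-1, 21), (1, 22),
    (-1, 23), (1, 24), (-1, 25)]),
  ([(-1, 3), (-1, 4), (-1, 11), (1, 14), (-1, 20), (1, 26)], [(-1, 11), (1, 23)], [(1, 1), (2, 2), (1, 4), (1, 5), (1,
    8), (1, 10), (2, 11), (1, 12), (1, 13), (-1, 14), (1, 16), (1, 17), (1, 18), (-1, 19), (2, 20), (-1, 21), (1, 22),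
    (-1, 23), (1, 24), (-1, 25)]),
  ([(-1, 14), (1, 23), (-1, 26)], [(1, 19)], [(-1, 19), (-1, 21), (-1, 25)]),
  ([(1, 11), (-1, 18), (-1, 19), (1, 20), (1, 21), (1, 24), (-1, 25), (-1, 27)], [(1, 4), (1, 8), (1, 9), (1, 15),
    (-1, 23)], [(-1, 1), (-2, 2), (-1, 4), (-1, 5), (-1, 8), (-1, 10), (-2, 11), (-1, 12), (-1, 13), (1, 14), (-1,
    16), (-1, 17), (-1, 18), (1, 19), (-2, 20), (1, 21), (-1, 22), (1, 23), (-1, 24), (1, 25)]),
  ([], [], [(-1, 19), (1, 21)]),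
  ([], [], [(1, 19), (1, 21), (1, 25)]),
  ([(2, 10), (-2, 16)], [(2, 9)], [(-1, 19), (-1, 21), (-1, 25)]),
  ([(2, 3), (2, 4), (-2, 6), (-2, 9), (2, 11), (-2, 14), (2, 16), (2, 24), (-2, 27)], [(-2, 14), (2, 16), (-2, 23)],
    [(-2, 1), (-4, 2), (-2, 4), (-2, 5), (-2, 8), (-2, 10), (-4, 11), (-2, 12), (-2, 13), (2, 14), (-2, 16), (-2, 17),
    (-2, 18), (3, 19), (-4, 20), (3, 21), (-2, 22), (2, 23), (-2, 24), (3, 25)]),
  ([(1, 10), (-1, 16)], [(1, 9)], []),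
  ([(-1, 3), (-1, 4), (1, 6), (1, 9), (-1, 11), (1, 14), (-1, 16), (-1, 24), (1, 27)], [(1, 14), (-1, 16), (1, 23)],
    [(1, 1), (2, 2), (1, 4), (1, 5), (1, 8), (1, 10), (2, 11), (1, 12), (1, 13), (-1, 14), (1, 16), (1, 17), (1, 18),
    (-1, 19), (2, 20), (-1, 21), (1, 22), (-1, 23), (1, 24), (-1, 25)])]

/-- the values of `U, V, P` -/
def dat : List (List ℤ × List ℤ × List ℤ) := [
  ([1, 1, 1, 1, 1, 1, 1, 1, 1, 1, 1, 1, 1, 1, 1, 1, 1, 1, 1, 1, 1, 1, 1, 1, 1, 1, 1, 1],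
   [],
   []),
  ([],
   [1, 1, 1, 1, 1, 1, 1, 1, 1, 1, 1, 1, 1, 1, 1, 1, 1, 1, 1, 1, 1, 1, 1, 1, 1, 1, 1, 1],
   []),
  ([154859, 51, -21, -13, 27, -29, -5, -13, -6, 34, 3, -2, -1, 3, -1, 6, -6, 1, -1, 3, 2, -3, -1, 0, 2, -1, -1, -1],
   [-138358, -90, 10, -10, 18, 6, -6, 14, -8, 17, -2, -3, 4, 2, 0, 0, 5, 0, 2, 1, 1, -5, 0, -1, -1, 0, 1, 1],
   [-458752, 0, 0, 32, 0, 0, 0, 0, -32, -152, 0, 0, 0, 0, 0, 0, 0, 0, 0, -8, 0, 7, 0, 0, 0, 0, 0, -1]),
  ([169706, -26, -150, -16, 50, -26, -6, -18, -4, 31, 0, -2, 4, 2, 0, 4, -5, 0, 0, 4, 2, -1, 0, -1, -3, 0, 0, -2],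
   [-153205, -13, 139, -7, -5, 3, -5, 19, -10, 20, 1, -3, -1, 3, -1, 2, 4, 1, 1, 0, 1, -7, -1, 0, 4, -1, 0, 2],
   [-458752, 0, 0, 32, 0, 0, 0, 0, -32, -152, 0, 0, 0, 0, 0, 0, 0, 0, 0, -8, 0, 7, 0, 0, 0, 0, 0, -1]),
  ([19426, 30, 98, -14, -22, 14, -30, -10, -4, 26, 2, -6, 4, 2, 0, 0, -2, 0, 2, 4, 2, -4, 0, 0, 0, 0, 4, -4],
   [-2898, 14, -82, -9, -2, -2, -34, 14, -13, 27, -1, 0, 2, 2, -2, -1, 3, -1, -1, 1, 0, -4, 0, 1, -1, 1, 1, 2],
   [-458752, 0, 0, 32, 0, 0, 0, 0, -32, -152, 0, 0, 0, 0, 0, 0, 0, 0, 0, -8, 0, 7, 0, 0, 0, 0, 0, -1]),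
  ([16150, 30, 22, -23, -26, 6, -34, -26, 0, 25, 1, -6, 2, 2, -2, 0, -3, -1, 1, 4, 2, -3, 0, 1, -1, 1, 4, -3],
   [378, 14, -6, 0, 2, 6, -30, 30, -17, 28, 0, 0, 4, 2, 0, -1, 4, 0, 0, 1, 0, -5, 0, 0, 0, 0, 1, 1],
   [-458752, 0, 0, 32, 0, 0, 0, 0, -32, -152, 0, 0, 0, 0, 0, 0, 0, 0, 0, -8, 0, 7, 0, 0, 0, 0, 0, -1]),
  ([-13832, 0, -264, -8, 8, -16, -24, 32, 8, -7, 0, 0, 0, 0, 0, 0, 1, 0, -4, 0, 0, 2, 0, 1, -3, 0, 0, 1],
   [-2291, 261, 269, 31, 13, 5, -19, -27, 9, -41, -1, -2, 5, 1, 1, 1, -1, -1, 3, -3, 2, 6, -1, 1, 3, 1, 1, 0],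
   [458752, 0, 0, -32, 0, 0, 0, 0, 32, 152, 0, 0, 0, 0, 0, 0, 0, 0, 0, 8, 0, -7, 0, 0, 0, 0, 0, 1]),
  ([-85867, 93, -107, -7, 5, -11, -19, 21, 3, -17, 1, 2, 1, 1, -3, 3, 3, -1, -3, -2, 2, 3, -1, 1, 1, 3, 2, 2],
   [69744, 168, 112, 30, 16, 0, -24, -16, 14, -31, -2, -4, -4, 0, -4, -2, -3, 0, 2, -1, 0, 5, 0, 1, -1, 2, -1, -1],
   [458752, 0, 0, -32, 0, 0, 0, 0, 32, 152, 0, 0, 0, 0, 0, 0, 0, 0, 0, 8, 0, -7, 0, 0, 0, 0, 0, 1]),
  ([783, -1, 15, 0, -1, -1, 15, 15, 3, 8, 0, -1, -1, 3, 3, -1, 0, 0, 0, 3, -1, 0, 1, 0, 0, 0, -1, 0],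
   [-406, 14, -22, -1, 2, -2, 10, -10, -1, -6, -1, 0, 0, 2, 4, -1, -2, 1, -1, -3, 0, -1, 0, 0, 0, 1, 1, 0],
   []),
  ([-406, 14, -22, -1, 2, -2, 10, -10, -1, -6, -1, 0, 0, 2, 4, -1, -2, 1, -1, -3, 0, -1, 0, 0, 0, 1, 1, 0],
   [783, -1, 15, 0, -1, -1, 15, 15, 3, 8, 0, -1, -1, 3, 3, -1, 0, 0, 0, 3, -1, 0, 1, 0, 0, 0, -1, 0],
   []),
  ([4524, 208, 44, 15, -12, -16, -4, 24, -6, -1, -1, 2, 6, 0, -2, -2, -1, -1, 3, 0, -2, 0, 0, 1, -1, 1, 0, 0],
   [-3276, 0, -76, -9, -4, -8, -4, -16, 4, -1, -1, 0, -2, 0, -2, 0, -1, -1, -1, 0, 0, 1, 0, 1, -1, 1, 0, 1],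
   []),
  ([156134, -130, -26, -7, 38, -18, -10, -18, -11, 34, 1, -1, -2, 2, 2, 5, -6, -1, -3, 4, 3, -2, 0, 0, 2, -1, 0, -2],
   [-138358, -90, 10, -10, 18, 6, -6, 14, -8, 17, -2, -3, 4, 2, 0, 0, 5, 0, 2, 1, 1, -5, 0, -1, -1, 0, 1, 1],
   [-458752, 0, 0, 32, 0, 0, 0, 0, -32, -152, 0, 0, 0, 0, 0, 0, 0, 0, 0, -8, 0, 7, 0, 0, 0, 0, 0, -1]),
  ([98946, 142, 2, 18, 58, -10, -6, -34, -14, 21, 2, -6, 4, 2, 0, 2, -3, 0, 2, 3, 2, -2, 0, -1, 1, 0, -1, -2],
   [-81170, -106, -18, -35, -2, -2, -10, 30, -5, 30, -3, -5, -2, 2, 2, -1, 2, -1, -3, 2, -1, -5, 0, 0, 0, -1, -2, 1],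
   [-458752, 0, 0, 32, 0, 0, 0, 0, -32, -152, 0, 0, 0, 0, 0, 0, 0, 0, 0, -8, 0, 7, 0, 0, 0, 0, 0, -1]),
  ([-109386, -78, 54, 18, -50, 10, 30, 50, 9, -36, -6, 3, 0, -2, 4, -3, 4, 0, 2, -4, -1, 3, 0, 0, 0, -2, 0, 2],
   [96134, 90, 6, 14, -18, 2, 30, -38, 4, -16, 6, 3, 0, -2, 4, 0, -4, 0, -2, -1, -1, 4, 0, 0, 2, -2, -1, -1],
   [458752, 0, 0, -32, 0, 0, 0, 0, 32, 152, 0, 0, 0, 0, 0, 0, 0, 0, 0, 8, 0, -7, 0, 0, 0, 0, 0, 1]),
  ([-12496, -16, 48, 32, 32, -8, 24, 24, -1, -21, 0, 6, 0, 0, 0, -1, 3, 0, 0, -3, -2, 2, 0, -1, -1, 0, -3, 3],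
   [-378, -14, 6, 0, -2, -6, 30, -30, 17, -28, 0, 0, -4, -2, 0, 1, -4, 0, 0, -1, 0, 5, 0, 0, 0, 0, -1, -1],
   [458752, 0, 0, -32, 0, 0, 0, 0, 32, 152, 0, 0, 0, 0, 0, 0, 0, 0, 0, 8, 0, -7, 0, 0, 0, 0, 0, 1]),
  ([-19426, -30, -98, 14, 22, -14, 30, 10, 4, -26, -2, 6, -4, -2, 0, 0, 2, 0, -2, -4, -2, 4, 0, 0, 0, 0, -4, 4],
   [6552, 0, 152, 18, 8, 0, 24, -16, 12, -23, 2, 0, 0, 0, 0, 0, -3, 0, 2, 0, 0, 3, 0, -1, -1, 0, 0, -2],
   [458752, 0, 0, -32, 0, 0, 0, 0, 32, 152, 0, 0, 0, 0, 0, 0, 0, 0, 0, 8, 0, -7, 0, 0, 0, 0, 0, 1]),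
  ([-86512, 16, 16, -4, -16, 0, 0, 0, 13, -12, 4, -6, 0, 0, 0, 1, -4, 0, 0, 3, 2, 1, 0, 0, 0, 0, 3, -5],
   [102400, 64, 0, 16, 0, 0, 0, 0, -5, 0, 0, -3, 0, 0, 0, -1, 0, 0, 0, -1, 1, 1, 0, 0, 0, 0, -1, 1],
   [-442368, 0, 0, 0, 0, 0, 0, 0, 12, 32, 0, 4, 0, 0, 0, 0, 0, 0, 0, -4, 0, 0, 0, 0, 0, 0, 0, -2]),
  ([-65892, 296, 28, -39, 20, -8, -4, -80, -7, 33, 1, 6, -2, 0, -2, 1, -7, -1, 1, 5, 2, -4, 0, 1, 5, 1, -3, -4],
   [82796, 224, -20, -13, 20, 0, -4, 72, -9, 21, -5, 0, -2, 0, -2, -1, 5, -1, 3, -1, 0, -3, 0, 1, -3, 1, 3, 1],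
   [-458752, 0, 0, 32, 0, 0, 0, 0, -32, -152, 0, 0, 0, 0, 0, 0, 0, 0, 0, -8, 0, 7, 0, 0, 0, 0, 0, -1]),
  ([],
   [],
   [16384, 0, 0, -32, 0, 0, 0, 0, 4, -16, 0, 4, 0, 0, 0, 0, 0, 0, 0, 4, 0, -2, 0, 0, 0, 0, 0, -1]),
  ([],
   [],
   [442368, 0, 0, 0, 0, 0, 0, 0, -12, -32, 0, -4, 0, 0, 0, 0, 0, 0, 0, 4, 0, 0, 0, 0, 0, 0, 0, 2]),
  ([-57304, 208, -216, -10, 24, 32, -40, -80, 6, -4, 6, -2, -4, 0, -4, -2, 4, 2, -2, 0, -2, 0, 0, 0, 0, 2, 0, 0],
   [91000, 0, 120, 10, 8, 0, -40, 80, 0, 0, -6, 0, -4, 0, -4, 0, 0, 2, 2, 0, 0, 0, 0, 0, 0, 2, 0, -2],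
   [-442368, 0, 0, 0, 0, 0, 0, 0, 12, 32, 0, 4, 0, 0, 0, 0, 0, 0, 0, -4, 0, 0, 0, 0, 0, 0, 0, -2]),
  ([148128, 128, 160, -48, 64, -48, 48, -48, -32, 78, 16, -6, 16, 0, 0, 8, -10, 0, 0, 6, 2, -8, 0, -2, 2, 0, -2, -4],
   [-127712, -416, -224, -56, 0, -16, 48, 48, -12, 38, -8, -4, 0, 0, 0, 4, 6, 0, 0, 0, 4, -6, 0, -2, -2, 0, 0, 4],
   [-475136, 0, 0, 64, 0, 0, 0, 0, -76, -336, 0, -4, 0, 0, 0, 0, 0, 0, 0, -12, 0, 14, 0, 0, 0, 0, 0, 0]),
  ([-28652, 104, -108, -5, 12, 16, -20, -40, 3, -2, 3, -1, -2, 0, -2, -1, 2, 1, -1, 0, -1, 0, 0, 0, 0, 1, 0, 0],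
   [45500, 0, 60, 5, 4, 0, -20, 40, 0, 0, -3, 0, -2, 0, -2, 0, 0, 1, 1, 0, 0, 0, 0, 0, 0, 1, 0, -1],
   []),
  ([-74064, -64, -80, 24, -32, 24, -24, 24, 16, -39, -8, 3, -8, 0, 0, -4, 5, 0, 0, -3, -1, 4, 0, 1, -1, 0, 1, 2],
   [63856, 208, 112, 28, 0, 8, -24, -24, 6, -19, 4, 2, 0, 0, 0, -2, -3, 0, 0, 0, -2, 3, 0, 1, 1, 0, 0, -2],
   [458752, 0, 0, -32, 0, 0, 0, 0, 32, 152, 0, 0, 0, 0, 0, 0, 0, 0, 0, 8, 0, -7, 0, 0, 0, 0, 0, 1])]

/-- the data of a row -/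
noncomputable def dt (j : ℕ) : List ℤ × List ℤ × List ℤ := ntd dat ([], [], []) j

/-- the norms -/
def mm (j : ℕ) : ℕ := if j < 16 then 1 else if j < 19 then 2 else 4

/-- the degrees of the constituents, up to the factor two of the last three rows -/
noncomputable def bb : ℕ → ℤ := nth [28, 28, 3276, 3276, 4032, 4032, 7308, 7308, 10556, 10556, 34944, 38976, 38976, 87696,
  98280, 98280, 1248, 7280, 8192, 110592, 125280, 24128]

/-- twice the real part of the product -/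
noncomputable def pr (d e : List ℤ × List ℤ × List ℤ) (t : ℕ) : ℤ :=
  2 * nn t * (nth d.1 t * nth e.1 t + nth d.2.1 t * nth e.2.1 t) +
    ww t * (nth d.1 t * nth e.2.1 t + nth d.2.1 t * nth e.1 t) +
    2 * cc t * ((nth d.1 t + nth d.2.1 t) * nth e.2.2 t + nth d.2.2 t * (nth e.1 t + nth e.2.1 t)) +
    2 * (nth d.2.2 t * nth e.2.2 t)

private noncomputable def _root_.Cfsg.Agent.LsF.fb95e46_36 : {f // @Cfsg.Agent.TAB.Eng.addL = f} := ⟨_, by first | (delta Cfsg.Agent.TAB.Eng.addL; rewrite [Cfsg.Agent.LsF.iadd_eq]; exact rfl) | exact rfl⟩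
private noncomputable def _root_.Cfsg.Agent.LsF.fb95e46_37 : {f // @Cfsg.Agent.TAB.Eng.comb = f} := ⟨_, by first | (delta Cfsg.Agent.TAB.Eng.comb; rewrite [Cfsg.Agent.LsF.fb95e46_36.2, Cfsg.Agent.LsF.map_eq, Cfsg.Agent.LsF.imul_eq]; exact rfl) | exact rfl⟩
theorem dt_eq : ∀ j < 24, dt j = (comb rows (ntd cof ([], [], []) j).1, comb rows (ntd cof ([], [], []) j).2.1,
    comb rows (ntd cof ([], [], []) j).2.2) := by (refine of_decide_eq_true ?_; (try (rewrite [Cfsg.Agent.LsF.fb95e46_37.2, Cfsg.Agent.LsF.dProdEq_eq, Cfsg.Agent.LsF.instIDecEq_eq, Cfsg.Agent.LsF.dListEq_eq, Cfsg.Agent.LsF.dBallLT_eq, Cfsg.Agent.LsF.decide_eq])); decide +kernel)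

theorem dt_ev : ∀ j < 24, ∀ t < D.n, D.ord t % 2 = 0 → nth (dt j).2.2 t = 0 := by decide +kernel

/-- the coefficients of `pr d e` as a linear function of `d` -/
private noncomputable def cX (e : List ℤ × List ℤ × List ℤ) (t : ℕ) : ℤ :=
  D.cnt t * (2 * nn t * nth e.1 t + ww t * nth e.2.1 t + 2 * cc t * nth e.2.2 t)

private noncomputable def cY (e : List ℤ × List ℤ × List ℤ) (t : ℕ) : ℤ :=
  D.cnt t * (2 * nn t * nth e.2.1 t + ww t * nth e.1 t + 2 * cc t * nth e.2.2 t)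

private noncomputable def cZ (e : List ℤ × List ℤ × List ℤ) (t : ℕ) : ℤ :=
  D.cnt t * (2 * cc t * (nth e.1 t + nth e.2.1 t) + 2 * nth e.2.2 t)

private noncomputable def ipG (d e : List ℤ × List ℤ × List ℤ) (n : ℕ) : ℤ :=
  Nat.rec 0 (fun t ih => Int.add (Int.add (Int.mul (nth d.1 t) (cX e t)) (Int.mul (nth d.2.1 t) (cY e t)))
    (Int.add (Int.mul (nth d.2.2 t) (cZ e t)) ih)) n

private theorem ipG_eq (d e : List ℤ × List ℤ × List ℤ) (n : ℕ) :
    ∑ t ∈ range n, (D.cnt t : ℤ) * (pr d e t * 1) = ipG d e n := by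
  induction n with
  | zero => rfl
  | succ n ih =>
    rw [sum_range_succ, ih]
    show _ = nth d.1 n * cX e n + nth d.2.1 n * cY e n + (nth d.2.2 n * cZ e n + ipG d e n)
    rw [pr, cX, cY, cZ]
    ring

private theorem pr_comm (d e : List ℤ × List ℤ × List ℤ) : pr d e = pr e d := by
  funext t
  rw [pr, pr]
  ring

private noncomputable def _root_.Cfsg.Agent.LsF.fb95e46_38 : {f // @Cfsg.Agent.TAB.Eng.Dat.cnt = f} := ⟨_, by first | (delta Cfsg.Agent.TAB.Eng.Dat.cnt; rewrite [Cfsg.Agent.LsF.getD_eq]; exact rfl) | exact rfl⟩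
private noncomputable def _root_.Cfsg.Agent.LsF.fb95e46_39 : {f // @Cfsg.Agent.MO.S.Ru.nn = f} := ⟨_, by first | (delta Cfsg.Agent.MO.S.Ru.nn; rewrite [Cfsg.Agent.LsF.iadd_pat]; exact rfl) | exact rfl⟩
private noncomputable def _root_.Cfsg.Agent.LsF.fb95e46_40 : {f // @Cfsg.Agent.MO.S.Ru.ww = f} := ⟨_, by first | (delta Cfsg.Agent.MO.S.Ru.ww; rewrite [Cfsg.Agent.LsF.iadd_pat, Cfsg.Agent.LsF.imul_pat]; exact rfl) | exact rfl⟩
private noncomputable def _root_.Cfsg.Agent.LsF.fb95e46_41 : {f // @Cfsg.Agent.MO.S.Ru.cc = f} := ⟨_, by first | (delta Cfsg.Agent.MO.S.Ru.cc; rewrite [Cfsg.Agent.LsF.fb95e46_39.2, Cfsg.Agent.LsF.imul_pat, Cfsg.Agent.LsF.isub_pat]; exact rfl) | exact rfl⟩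
private noncomputable def _root_.Cfsg.Agent.LsF.fb95e46_42 : {f // @Cfsg.Agent.MO.S.Ru.cX = f} := ⟨_, by first | (delta Cfsg.Agent.MO.S.Ru.cX; rewrite [Cfsg.Agent.LsF.fb95e46_38.2, Cfsg.Agent.LsF.fb95e46_39.2, Cfsg.Agent.LsF.fb95e46_40.2, Cfsg.Agent.LsF.fb95e46_41.2, Cfsg.Agent.LsF.iadd_pat, Cfsg.Agent.LsF.imul_pat, Cfsg.Agent.LsF.icast_pat]; exact rfl) | exact rfl⟩
private noncomputable def _root_.Cfsg.Agent.LsF.fb95e46_43 : {f // @Cfsg.Agent.MO.S.Ru.cY = f} := ⟨_, by first | (delta Cfsg.Agent.MO.S.Ru.cY; rewrite [Cfsg.Agent.LsF.fb95e46_38.2, Cfsg.Agent.LsF.fb95e46_39.2, Cfsg.Agent.LsF.fb95e46_40.2, Cfsg.Agent.LsF.fb95e46_41.2, Cfsg.Agent.LsF.iadd_pat, Cfsg.Agent.LsF.imul_pat, Cfsg.Agent.LsF.icast_pat]; exact rfl) | exact rfl⟩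
private noncomputable def _root_.Cfsg.Agent.LsF.fb95e46_44 : {f // @Cfsg.Agent.MO.S.Ru.cZ = f} := ⟨_, by first | (delta Cfsg.Agent.MO.S.Ru.cZ; rewrite [Cfsg.Agent.LsF.fb95e46_38.2, Cfsg.Agent.LsF.fb95e46_41.2, Cfsg.Agent.LsF.iadd_pat, Cfsg.Agent.LsF.imul_pat, Cfsg.Agent.LsF.icast_pat]; exact rfl) | exact rfl⟩
private noncomputable def _root_.Cfsg.Agent.LsF.fb95e46_45 : {f // @Cfsg.Agent.MO.S.Ru.ipG = f} := ⟨_, by first | (delta Cfsg.Agent.MO.S.Ru.ipG; rewrite [Cfsg.Agent.LsF.fb95e46_42.2, Cfsg.Agent.LsF.fb95e46_43.2, Cfsg.Agent.LsF.fb95e46_44.2, Cfsg.Agent.LsF.iadd_eq, Cfsg.Agent.LsF.imul_eq]; exact rfl) | exact rfl⟩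
private noncomputable def _root_.Cfsg.Agent.LsF.fb95e46_46 : {f // @Cfsg.Agent.MO.S.Ru.mm = f} := ⟨_, by first | (delta Cfsg.Agent.MO.S.Ru.mm; rewrite [Cfsg.Agent.LsF.decLt_eq, Cfsg.Agent.LsF.ite_eq]; exact rfl) | exact rfl⟩
theorem dt_gram : ∀ i < 22, ∀ j < 22,
    ipF D (pr (dt i) (dt j)) (fun _ => 1) = D.N * (2 * if i = j then (mm i : ℤ) else 0) := by
  have h : ∀ i < 22, ∀ j < i + 1, ipG (dt i) (dt j) D.n = D.N * (2 * if i = j then (mm i : ℤ) else 0) := by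
    (refine of_decide_eq_true ?_; (try (rewrite [Cfsg.Agent.LsF.fb95e46_45.2, Cfsg.Agent.LsF.fb95e46_46.2, Cfsg.Agent.LsF.nadd_pat, Cfsg.Agent.LsF.imul_pat, Cfsg.Agent.LsF.icast_pat, Cfsg.Agent.LsF.instDecEq_eq, Cfsg.Agent.LsF.instIDecEq_eq, Cfsg.Agent.LsF.dBallLT_eq, Cfsg.Agent.LsF.ite_eq, Cfsg.Agent.LsF.decide_eq])); decide +kernel)
  intro i hi j hj
  rcases Nat.lt_or_ge j (i + 1) with e | e
  · exact (ipG_eq _ _ _).trans (h i hi j e)
  · have e' : i < j := e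
    rw [pr_comm, if_neg e'.ne]
    exact (ipG_eq _ _ _).trans ((h j hj i (by omega)).trans (by rw [if_neg e'.ne']))

theorem dt_deg : ∀ j < 22, 28 * nth (dt j).1 0 + 28 * nth (dt j).2.1 0 + nth (dt j).2.2 0 = bb j * mm j := by
  decide +kernel

theorem dt_par : ∀ t < D.n, (nth (dt 19).1 t + nth (dt 20).1 t = 2 * nth (dt 22).1 t ∧
    nth (dt 19).2.1 t + nth (dt 20).2.1 t = 2 * nth (dt 22).2.1 t ∧
    nth (dt 19).2.2 t + nth (dt 20).2.2 t = 2 * nth (dt 22).2.2 t) ∧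
    nth (dt 19).1 t - nth (dt 21).1 t = 2 * nth (dt 23).1 t ∧
    nth (dt 19).2.1 t - nth (dt 21).2.1 t = 2 * nth (dt 23).2.1 t ∧
    nth (dt 19).2.2 t - nth (dt 21).2.2 t = 2 * nth (dt 23).2.2 t := by decide +kernel

variable {K : Type} [Group K] [Fintype K] {σ : K →* H} {z : K} {ψ : K → ℂ}

/-- the sign -/
noncomputable def eps (g : K) : ℂ := if 2 ∣ orderOf g then -1 else 1

/-- the rows -/
noncomputable def rw (σ : K →* H) (ψ : K → ℂ) (j : ℕ) (g : K) : ℂ :=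
  ψ g * nth (dt j).1 (T.ty (σ g)) + conj (ψ g) * nth (dt j).2.1 (T.ty (σ g)) + eps g * nth (dt j).2.2 (T.ty (σ g))

theorem pv {j : ℕ} (hj : j < 24) {g : H} (h : 2 ∣ orderOf g) : nth (dt j).2.2 (T.ty g) = 0 :=
  dt_ev j hj _ (T.lt g) (by rw [← T.ord]; omega)

namespace Psi

variable (L : Psi σ z ψ)
include L

theorem mz (g : K) : σ (z * g) = σ g := by rw [map_mul, L.kz, one_mul]

theorem eps_z {s : K} (hs : ¬ 2 ∣ orderOf s) : eps (z * s) = -1 := by
  have := Fact.mk Nat.prime_two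
  have h1 : orderOf z = 2 := orderOf_eq_prime (by rw [pow_two, L.zz]) L.ne
  rw [eps, if_pos]
  rw [Commute.orderOf_mul_eq_mul_orderOf_of_coprime (mem_center_iff.1 L.cen s).symm
    (h1 ▸ (Nat.prime_two.coprime_iff_not_dvd.2 hs)), h1]
  exact dvd_mul_right _ _

theorem split {g : K} (h : ¬ 2 ∣ orderOf (σ g)) : eps (z * g) = -eps g ∧ eps g * ψ g = cc (T.ty (σ g)) := by
  have := Fact.mk Nat.prime_two
  obtain ⟨y, s, hs, rfl⟩ := BZ.Comp.dec h
  rcases (L.ker y).1 y.2 with e | e <;> rw [e]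
  · rw [one_mul, L.eps_z hs, eps, if_neg hs, one_mul, L.odd hs]
    exact ⟨rfl, rfl⟩
  · rw [← mul_assoc, L.zz, one_mul, L.eps_z hs, eps, if_neg hs, neg_neg, L.neg, L.mz, L.odd hs]
    exact ⟨rfl, by ring⟩

theorem rw_neg {j : ℕ} (hj : j < 24) (g : K) : rw σ ψ j (z * g) = -rw σ ψ j g := by
  rw [rw, rw, L.mz, L.neg, map_neg]
  by_cases h : 2 ∣ orderOf (σ g)
  · rw [pv hj h]
    push_cast
    ring
  · rw [(L.split h).1]
    ring

theorem rw_gen {j : ℕ} (hj : j < 24) : IsGeneralizedCharacter K (rw σ ψ j) := by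
  classical
  have := Fact.mk Nat.prime_two
  have hv : ∀ c, IsGeneralizedCharacter H fun g => (nth (comb rows c) (T.ty g) : ℂ) := Virt.comb rows_virt
  have h1 : Virt T (nth (dt j).1) ∧ Virt T (nth (dt j).2.1) ∧ Virt T (nth (dt j).2.2) := by
    rw [dt_eq j hj]
    exact ⟨hv _, hv _, hv _⟩
  let ν : σ.ker →* ℂˣ := MonoidHom.mk' (fun y => if (y : K) = 1 then 1 else -1) fun x y => by
    rcases (L.ker x).1 x.2 with e | e <;> rcases (L.ker y).1 y.2 with e' | e' <;> simp only [e, e', L.ne, L.zz, _root_.Subgroup.coe_mul, _root_.mul_one, ↓ _root_.reduceIte, _root_.one_mul, _root_.mul_neg, _root_.neg_neg]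
  obtain ⟨Φ, h2, u⟩ := BZ.Comp.exists_up (r := 2) ⟨L.surj, fun y hy => by
    rcases (L.ker y).1 hy with rfl | rfl
    exacts [one_mem _, L.cen], fun y => ⟨1, Subtype.ext (by
      rcases (L.ker y).1 y.2 with e | e <;> simp only [pow_two, e, L.zz, _root_.pow_one, _root_.Subgroup.coe_mul, _root_.mul_one, _root_.OneMemClass.coe_one])⟩⟩ ν h1.2.2 fun g hg => by
        rw [pv hj hg, Int.cast_zero]
  have h3 : Φ = fun g => eps g * nth (dt j).2.2 (T.ty (σ g)) := funext fun g => by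
    by_cases h : 2 ∣ orderOf (σ g)
    · rw [u.up0 g h, pv hj h, Int.cast_zero, mul_zero]
    · obtain ⟨y, s, hs, rfl⟩ := BZ.Comp.dec h
      rw [u.reg y s hs, BZ.Comp.map_mul_ker, show ν y = if (y : K) = 1 then 1 else -1 from rfl]
      rcases (L.ker y).1 y.2 with e | e <;> rw [e]
      · rw [if_pos rfl, one_mul, eps, if_neg hs, Units.val_one]
      · rw [if_neg L.ne, L.eps_z hs, Units.val_neg, Units.val_one]
  exact gen_add (gen_add (gen_mul (gen_of_char L.ch) (gen_comp σ h1.1))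
    (gen_mul (gen_of_char (isCharacter_conj L.ch)) (gen_comp σ h1.2.1))) (h3 ▸ h2)

theorem rw_gram {i j : ℕ} (hi : i < 22) (hj : j < 22) :
    classInner (rw σ ψ i) (rw σ ψ j) = (if i = j then (mm i : ℤ) else 0 : ℤ) := by
  have h1 := inner_ty L.surj (dt_gram i hi j hj)
  rw [Int.cast_mul 2, Int.cast_two] at h1
  refine mul_left_cancel₀ two_ne_zero (Eq.trans ?_ h1)
  rw [classInner_def, classInner_def, mul_left_comm, two_mul]
  nth_rw 2 [← Equiv.sum_comp (Equiv.inv K)]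
  rw [← sum_add_distrib]
  refine congrArg _ (sum_congr rfl fun g _ => ?_)
  have h2 : conj (eps g) = eps g ∧ eps g * eps g = 1 := by
    rw [eps]
    split_ifs <;> simp only [_root_.map_neg, _root_.map_one, _root_.mul_neg, _root_.mul_one, _root_.neg_neg, _root_.and_self]
  have h3 := L.sq g
  have h4 := L.re2 g
  simp only [rw, pr, Equiv.inv_apply, map_inv, ty_inv, isCharacter_apply_inv L.ch, map_add, map_mul, map_intCast,
    Complex.conj_conj, show eps g⁻¹ = eps g by rw [eps, eps, orderOf_inv], h2.1]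
  by_cases h : 2 ∣ orderOf (σ g)
  · rw [pv (by omega) h, pv (by omega) h]
    push_cast
    rw [← h3, ← h4]
    ring
  · have h5 := (L.split h).2
    have h6 := congrArg conj h5
    rw [map_mul, map_intCast, h2.1] at h6
    push_cast
    generalize (nth (dt i).1 (T.ty (σ g)) : ℂ) = U
    generalize (nth (dt i).2.1 (T.ty (σ g)) : ℂ) = V
    generalize (nth (dt i).2.2 (T.ty (σ g)) : ℂ) = P
    generalize (nth (dt j).1 (T.ty (σ g)) : ℂ) = U'
    generalize (nth (dt j).2.1 (T.ty (σ g)) : ℂ) = V'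
    generalize (nth (dt j).2.2 (T.ty (σ g)) : ℂ) = P'
    linear_combination 2 * (U * U' + V * V') * h3 + (U * V' + V * U') * h4 +
      ((U + V) * P' + P * (U' + V')) * (h5 + h6) + 2 * P * P' * h2.2

theorem rw_one {j : ℕ} (hj : j < 22) : rw σ ψ j 1 = (bb j * mm j : ℤ) := by
  rw [rw, map_one, ty_one, L.one, ← dt_deg j hj, eps, orderOf_one, if_neg (by norm_num), map_ofNat]
  push_cast
  ring

theorem card : Nat.card K = 291852288000 := by
  rw [← σ.ker.card_mul_index, index_ker, MonoidHom.range_eq_top.2 L.surj, card_top, card_H,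
    (Nat.card_eq_two_iff' (1 : σ.ker)).2 ⟨⟨z, L.kz⟩, fun e => L.ne (congrArg Subtype.val e), fun y hy =>
      Subtype.ext (((L.ker y).1 y.2).resolve_left fun e => hy (Subtype.ext e))⟩]

/-- the last three rows are divisible by two -/
theorem even (χ : IrrCharacter K) : ∀ j, 19 ≤ j → j < 22 → ∃ n : ℤ, classInner (rw σ ψ j) χ = 2 * n := by
  classical
  have := finite_irr (G := K)
  have := Fintype.ofFinite (IrrCharacter K)
  let a : ℕ → IrrCharacter K → ℤ := fun j => if h : j < 24 then mu (L.rw_gen h) else 0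
  have ha : ∀ j (h : j < 24), a j = mu (L.rw_gen h) := fun j h => dif_pos h
  have hi : ∀ j < 24, classInner (rw σ ψ j) χ = a j χ := fun j h => by rw [ha j h, inner_mu]
  have p1 : a 19 χ + a 20 χ = 2 * a 22 χ := by
    have h1 : rw σ ψ 19 + rw σ ψ 20 = (2 : ℂ) • rw σ ψ 22 := funext fun g => by
      obtain ⟨⟨h1, h2, h3⟩, -⟩ := dt_par _ (T.lt (σ g))
      rify at h1 h2 h3
      have h1 := congrArg Complex.ofReal h1
      have h2 := congrArg Complex.ofReal h2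
      have h3 := congrArg Complex.ofReal h3
      push_cast at h1 h2 h3
      simp only [Pi.add_apply, Pi.smul_apply, smul_eq_mul, rw]
      linear_combination ψ g * h1 + conj (ψ g) * h2 + eps g * h3
    have h2 := congrArg (classInner · χ) h1
    simp only [classInner_add_left, classInner_smul_left, hi 19 (by norm_num), hi 20 (by norm_num),
      hi 22 (by norm_num)] at h2
    exact_mod_cast h2
  have p2 : a 19 χ - a 21 χ = 2 * a 23 χ := by
    have h1 : rw σ ψ 19 - rw σ ψ 21 = (2 : ℂ) • rw σ ψ 23 := funext fun g => by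
      obtain ⟨-, h1, h2, h3⟩ := dt_par _ (T.lt (σ g))
      rify at h1 h2 h3
      have h1 := congrArg Complex.ofReal h1
      have h2 := congrArg Complex.ofReal h2
      have h3 := congrArg Complex.ofReal h3
      push_cast at h1 h2 h3
      simp only [Pi.sub_apply, Pi.smul_apply, smul_eq_mul, rw]
      linear_combination ψ g * h1 + conj (ψ g) * h2 + eps g * h3
    have h2 := congrArg (classInner · χ) h1
    simp only [classInner_sub_left, classInner_smul_left, hi 19 (by norm_num), hi 21 (by norm_num),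
      hi 23 (by norm_num)] at h2
    exact_mod_cast h2
  have key : a 19 χ % 2 = 0 := by
    by_contra h0
    have h1 := bessel a (range 22) mm (fun j => 4 / mm j) (L := 4) (by decide) (fun i hi j hj => by
      have hi := mem_range.1 hi
      have hj := mem_range.1 hj
      have h2 := (L.rw_gram hi hj).symm.trans (inner_sum_mu (L.rw_gen (by omega)) (L.rw_gen (by omega)))
      rw [ha i (by omega), ha j (by omega)]
      exact (Int.cast_injective h2).symm) χ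
    rw [sum_range_succ, sum_range_succ, sum_range_succ] at h1
    simp only [show 4 / mm 19 = 1 from rfl, show 4 / mm 20 = 1 from rfl, show 4 / mm 21 = 1 from rfl, Nat.cast_one,
      one_mul, Nat.cast_ofNat] at h1
    have s : ∀ x : ℤ, x ≠ 0 → 1 ≤ x * x := fun x h => Int.add_one_le_iff.2 (mul_self_pos.2 h)
    have s1 := s (a 19 χ) (by (clear * - h0; omega))
    have s2 := s (a 20 χ) (by (clear * - p1 h0; omega))
    have s3 := s (a 21 χ) (by omega)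
    have n0 : ∀ j ∈ range 19, 0 ≤ ((4 / mm j : ℕ) : ℤ) * (a j χ * a j χ) := fun j _ =>
      mul_nonneg (Int.natCast_nonneg _) (mul_self_nonneg _)
    have s0 := sum_nonneg n0
    have h2 : ∀ j ∈ range 19, a j χ = 0 := fun j hj => by
      by_contra h2
      have h3 := single_le_sum n0 hj
      have h4 : (2 : ℤ) ≤ (4 / mm j : ℕ) := by exact_mod_cast (by decide : ∀ j ∈ range 19, 2 ≤ 4 / mm j) j hj
      have := s _ h2
      nlinarith only [h1, s1, s2, s3, h3, h4, this]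
    have t : ∀ x : ℤ, x * x ≤ 2 → x ≠ 0 → x = 1 ∨ x = -1 := fun x h h' => by
      have : -2 < x ∧ x < 2 := by constructor <;> nlinarith only [h]
      omega
    obtain ⟨d, h3, h4, h5⟩ := degree_dvd χ
    have h6 : (χ : K → ℂ) z = -(χ : K → ℂ) 1 := by
      by_contra h6
      have h7 := Cov2.inner_zero (Z := zpowers z) (l := fun y => if y = 1 then 1 else -1) (zpowers_le.2 L.cen)
        (f := rw σ ψ 19) (fun y hy x => by
          rcases (L.ker y).1 (zpowers_le.2 (show z ∈ σ.ker from L.kz) hy) with rfl | rfl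
          · simp
          · simp only [if_neg L.ne, L.rw_neg (show 19 < 24 by norm_num), neg_one_mul]) χ fun h => h6 (by
            rw [h z (mem_zpowers z), if_neg L.ne, neg_one_mul])
      rw [hi 19 (by norm_num), Int.cast_eq_zero] at h7
      (clear * - h0 h7; omega)
    have h7 := deg_rows L.ne (k := 22) (rw σ ψ) (fun j => mm j) bb
      (fun j hj => by rw [← L.rw_neg (by omega), mul_one]) (fun i hi j hj => L.rw_gram hi hj)
      (fun j hj => L.rw_one hj) (by rw [L.card]; decide +kernel) h6 h4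
    rw [sum_congr rfl fun j hj => by rw [hi j (by have := mem_range.1 hj; omega)], sum_range_succ, sum_range_succ,
      sum_range_succ, sum_eq_zero fun j hj => by rw [h2 j hj, Int.cast_zero, mul_zero]] at h7
    have h8 : 110592 * a 19 χ + 125280 * a 20 χ + 24128 * a 21 χ = d := by
      rw [zero_add, show bb 19 = 110592 from rfl, show bb 20 = 125280 from rfl, show bb 21 = 24128 from rfl] at h7
      exact_mod_cast h7
    rw [L.card, ← Int.natCast_dvd_natCast, ← h8] at h5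
    rcases t (a 19 χ) (by omega) (by (clear * - h0; omega)) with e1 | e1 <;> rcases t (a 20 χ) (by omega) (by (clear * - L p1 p2 e1; omega)) with e2 | e2 <;>
      rcases t (a 21 χ) (by omega) (by (clear * - L p1 p2 e1; omega)) with e3 | e3 <;> rw [e1, e2, e3] at h5 <;> norm_num at h5
  intro j h1 h2
  refine ⟨a j χ / 2, ?_⟩
  rw [hi j (by omega)]
  exact_mod_cast (by interval_cases j <;> (clear * - key p1 p2; omega) : a j χ = 2 * (a j χ / 2))

end Psi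

/-- **the faithful characters of `2.Ru`** -/
theorem gk2 (p : ℕ) : GK p 2 H (∑ y ∈ range 22,
    if ¬ p ∣ (bb y * if y < 19 then 1 else 2).natAbs then (if y < 19 then mm y else 1) else 0) := by
  intro K _ _ σ v l ⟨μ, h1, h2⟩
  have := Fintype.ofFinite K
  obtain ⟨z, ψ, L⟩ := exists_psi v
  let f : ℕ → K → ℂ := fun j => (if j < 19 then 1 else 2⁻¹ : ℂ) • rw σ ψ j
  have hl : l z = -1 := by
    have h3 : μ ⟨z, L.cen⟩ * μ ⟨z, L.cen⟩ = 1 := by rw [← map_mul, ← map_one μ]; exact congrArg μ (Subtype.ext L.zz)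
    rw [h2 ⟨z, L.cen⟩]
    refine (mul_self_eq_one_iff.1 (by rw [← Units.val_mul, h3, Units.val_one])).resolve_left fun e => L.ne ?_
    exact congrArg Subtype.val (h1 ((Units.ext e).trans (map_one μ).symm))
  have hv : ∀ j < 22, IsGeneralizedCharacter K (f j) := fun j hj => by
    by_cases h : j < 19
    · simp only [f, if_pos h, one_smul]
      exact L.rw_gen (by omega)
    · refine gen_of_inner_int (fun g x => ?_) fun χ hχ => ?_
      · simp only [f, Pi.smul_apply, gen_isClassFunction (L.rw_gen (by omega : j < 24)) g x]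
      · obtain ⟨n, hn⟩ := L.even ⟨χ, hχ⟩ j (by omega) hj
        exact ⟨n, by rw [classInner_smul_left, if_neg h, hn, inv_mul_cancel_left₀ two_ne_zero]⟩
  have hG : ∀ i < 22, ∀ j < 22, classInner (f i) (f j) =
      (gam (fun y => if y < 19 then mm y else 1) (fun _ => 0) i j : ℤ) := fun i hi j hj => by
    rw [classInner_smul_left, classInner_smul_right, L.rw_gram hi hj, gam]
    by_cases e : i = j
    · subst e
      by_cases h : i < 19
      · simp [h]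
      · simp only [if_neg h, if_true, mm, if_neg (show ¬ i < 16 by omega), map_inv₀, map_ofNat]
        norm_num
    · simp [e]
  have he : ∀ j < 22, f j 1 = (bb j * if j < 19 then (mm j : ℤ) else 2 : ℤ) := fun j hj => by
    simp only [f, Pi.smul_apply, L.rw_one hj, smul_eq_mul]
    by_cases h : j < 19
    · simp [h]
    · simp only [if_neg h, mm, if_neg (show ¬ j < 16 by omega)]
      push_cast
      ring
  have hc : (Nat.card K : ℤ) = 291852288000 := by rw [L.card]; rfl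
  obtain ⟨ix, E⟩ := Cov2.enum_cov (k := 22) (ns := 0) (m := fun y => if y < 19 then mm y else 1) (st := fun _ => 0)
    le_rfl μ h2 ⟨fun _ _ => le_rfl, fun _ _ h => absurd rfl h, fun s hs => (by cases hs), fun s hs => by cases hs⟩
    (by decide) f hv (fun j hj y hy x => by
      rcases (L.ker y).1 (v.ker.ge hy) with rfl | rfl
      · rw [Fl.one ⟨μ, h1, h2⟩, one_mul, one_mul]
      · simp only [f, Pi.smul_apply, L.rw_neg (show j < 24 by omega), hl, smul_neg, neg_one_mul]) hG _ he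
    (fun y => bb y * if y < 19 then 1 else 2) (by decide +kernel) (by rw [v.card, hc]; decide +kernel)
    fun j hj i hi _ _ h3 h4 χ s c hs hc' => by
      have h0 : ∀ j < 22, (if j < 19 then mm j else 1) = 2 → 16 ≤ j ∧ j ≤ 18 := by decide
      rcases (by have := h0 j hj h3; have := h0 i (by omega) h4; omega :
        j = 17 ∧ i = 16 ∨ j = 18 ∧ (i = 16 ∨ i = 17)) with ⟨rfl, rfl⟩ | ⟨rfl, rfl | rfl⟩
      · intro h5
        have h6 : IsGeneralizedCharacter K ((2⁻¹ : ℂ) • (f 17 + f 16)) := by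
          rcases hs with rfl | rfl
          · rw [show (2⁻¹ : ℂ) • (f 17 + f 16) = (c : ℂ) • (χ : K → ℂ) from funext fun x => by
              simp only [Pi.smul_apply, Pi.add_apply, smul_eq_mul]
              linear_combination (norm := (push_cast; ring1)) 2⁻¹ * h5 x]
            exact gen_intCast_smul c (gen_of_irr χ.2)
          · rw [show (2⁻¹ : ℂ) • (f 17 + f 16) = f 16 + (c : ℂ) • (χ : K → ℂ) from funext fun x => by
              simp only [Pi.smul_apply, Pi.add_apply, smul_eq_mul]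
              linear_combination (norm := (push_cast; ring1)) 2⁻¹ * h5 x]
            exact gen_add (hv 16 (by norm_num)) (gen_intCast_smul c (gen_of_irr χ.2))
        have h7 : ((2⁻¹ : ℂ) • (f 17 + f 16)) 1 = 8528 := by
          rw [Pi.smul_apply, Pi.add_apply, he 17 hj, he 16 (by norm_num), show bb 17 = 7280 from rfl,
            show bb 16 = 1248 from rfl]
          norm_num [mm]
        rcases isIrr_of_generalized h6 (by
          rw [classInner_smul_left, classInner_smul_right, classInner_add_left, classInner_add_right,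
            classInner_add_right, hG 17 hj 17 hj, hG 17 hj 16 (by norm_num), hG 16 (by norm_num) 17 hj,
            hG 16 (by norm_num) 16 (by norm_num), map_inv₀, map_ofNat]
          norm_num [gam, mm]) with h8 | h8 <;> obtain ⟨d, -, h9, h10⟩ := degree_dvd ⟨_, h8⟩
        · rw [L.card, show d = 8528 by exact_mod_cast h9.symm.trans h7] at h10
          norm_num at h10
        · have h11 : (d : ℤ) = -8528 := by exact_mod_cast h9.symm.trans (congrArg Neg.neg h7)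
          omega
      · exact Cov2.sep_deg (he 18 hj) (he 16 (by norm_num)) (by rw [hc]; decide +kernel) (by rw [hc]; decide +kernel)
          χ s c hs hc'
      · exact Cov2.sep_deg (he 18 hj) (he 17 (by norm_num)) (by rw [hc]; decide +kernel) (by rw [hc]; decide +kernel)
          χ s c hs hc'
  rw [E.kk p]
  refine sum_congr rfl fun y hy => ?_
  simp only [sdeg, mlt, if_pos (mem_range.1 hy), if_true]

theorem gk_2_3 : GK 3 2 H 9 := fun K _ _ σ v l hl => (gk2 3 K σ v l hl).trans (by decide +kernel)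

theorem gk_2_5 : GK 5 2 H 20 := fun K _ _ σ v l hl => (gk2 5 K σ v l hl).trans (by decide +kernel)

end Cfsg.Agent.MO.S.Ru
end

-- part: MO/S/Ru/Loc
section
/-!
# MO, `Ru` and `2.Ru` : the normalisers `3^(1+2):SD16` and `5^(1+2):(4 ≀ 2)` (helper45)

* `eq_one_of_comm` : the centre of the double cover meets the derived group of the normaliser trivially;
* `loc` : the count for a group of order `p ^ 3`; `lk_two` : the count in the cover;
* `loc_3`, `loc_5`, `lk_2_3`, `lk_2_5`.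
-/

set_option autoImplicit false
set_option maxRecDepth 100000

namespace Cfsg.Agent.MO.S.Ru

open Cfsg Subgroup Cfsg.Agent.MO.T Cfsg.Agent.MO.S.Pc Cfsg.Agent.MO.L
open Cfsg.Agent.MK.S.Pc (ev ev_nil ev_cons V mem_V)
open scoped commutatorElement

section generic

variable {X : Type} [Group X] {p : ℕ}

theorem comm_closure_le {S : Set X} {D : Subgroup X} (h1 : ∀ a ∈ S, a ∈ normalizer (D : Set X))
    (h2 : ∀ a ∈ S, ∀ b ∈ S, ⁅a, b⁆ ∈ D) : ⁅_root_.Subgroup.closure S, closure S⁆ ≤ D := by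
  have h0 : ∀ a ∈ _root_.Subgroup.closure S, ∀ x ∈ D, a * x * a⁻¹ ∈ D := fun a ha x hx =>
    (mem_normalizer_iff.1 ((closure_le _).2 h1 ha) x).1 hx
  have key : ∀ z : X, (∀ a ∈ S, ⁅a, z⁆ ∈ D) → ∀ x ∈ closure S, ⁅x, z⁆ ∈ D := by
    intro z hz x hx
    induction hx using closure_induction with
    | mem x hx => exact hz x hx
    | one => rw [commutatorElement_one_left]; exact one_mem _
    | mul a b ha _ h3 h4 =>
      rw [show ⁅a * b, z⁆ = a * ⁅b, z⁆ * a⁻¹ * ⁅a, z⁆ by simp only [commutatorElement_def]; group]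
      exact mul_mem (h0 a ha _ h4) h3
    | inv a ha h3 =>
      rw [show ⁅a⁻¹, z⁆ = a⁻¹ * ⁅a, z⁆⁻¹ * a⁻¹⁻¹ by simp only [commutatorElement_def]; group]
      exact h0 _ (inv_mem ha) _ (inv_mem h3)
  refine commutator_le.2 fun x hx z hz => key z (fun a ha => ?_) x hx
  rw [← commutatorElement_inv]
  exact inv_mem (key a (fun b hb => h2 b hb a ha) z hz)

/-- **the centre and the derived group of the normaliser** -/
theorem eq_one_of_comm [Finite X] [hp : Fact p.Prime] (h0 : p ≠ 2) {S : Type} [Group S] {φ : X →* S} {z x s : X}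
    (hz : z ∈ center X) (zz : z * z = 1) (hk : ∀ y, φ y = 1 ↔ y = 1 ∨ y = z) {Q : Subgroup X} (hQ : IsPGroup p Q)
    (hx : x ∈ normalizer (Q : Set X)) (hs : s ∈ normalizer (Q : Set X))
    (hN : (normalizer (Q : Set X)).map φ ≤ Q.map φ ⊔ _root_.Subgroup.closure {φ x, φ s}) (h1 : Commute x (s * x * s⁻¹))
    (h2 : φ s * φ s = 1) (h3 : ⁅s, x⁆ ^ 4 = 1) (h4 : φ s * (φ x * φ x) ≠ φ x * φ x * φ s)
    (h : z ∈ ⁅normalizer (Q : Set X), normalizer (Q : Set X)⁆) : z = 1 := by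
  have c1 : ∀ a, z * a = a * z := fun a => (mem_center_iff.1 hz a).symm
  have c2 : x * (s * s) = s * s * x := by
    rcases (hk (s * s)).1 (by rw [map_mul, h2]) with e | e <;> simp [e, c1]
  obtain ⟨D, hD⟩ : ∃ D, D = Q ⊔ zpowers ⁅s, x⁆ := ⟨_, rfl⟩
  have hQD : Q ≤ D := hD ▸ le_sup_left
  have hu : ⁅s, x⁆ ∈ D := hD ▸ mem_sup_right (mem_zpowers _)
  have h5 : ∀ a ∈ normalizer (Q : Set X), a * ⁅s, x⁆ * a⁻¹ ∈ D → a ∈ normalizer (D : Set X) := fun a ha e =>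
    mem_normalizer_fintype fun _ hd => (show D ≤ D.comap (MulAut.conj a).toMonoidHom from hD.le.trans
      (sup_le (fun q hq => hQD ((mem_normalizer_iff.1 ha q).1 hq)) (zpowers_le.2 e))) hd
  have h6 : normalizer (Q : Set X) ≤ _root_.Subgroup.closure (Q ∪ {x, s, z}) := fun n hn => by
    have h7 := hN (mem_map_of_mem φ hn)
    rw [← Set.image_pair, ← MonoidHom.map_closure, ← Subgroup.map_sup] at h7
    obtain ⟨m, hm, e⟩ := h7
    have h8 : m ∈ closure ((Q : Set X) ∪ {x, s, z}) :=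
      sup_le (b := closure {x, s}) (fun _ hq => Subgroup.subset_closure (Set.mem_union_left _ hq))
        (Subgroup.closure_mono (Set.pair_subset (by simp) (by simp))) hm
    rw [← mul_inv_cancel_left m n]
    rcases (hk (m⁻¹ * n)).1 (by rw [map_mul, map_inv, e, inv_mul_cancel]) with e | e <;> rw [e]
    exacts [mul_mem h8 (one_mem _), mul_mem h8 (_root_.Subgroup.subset_closure (by simp))]
  have h7 : ∀ a ∈ (Q : Set X) ∪ {x, s, z}, a ∈ normalizer (Q : Set X) := by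
    rintro a (h | rfl | rfl | rfl)
    exacts [le_normalizer h, hx, hs, center_le_normalizer _ hz]
  have h8 : ∀ a b, ⁅a, b⁆ ∈ D → ⁅b, a⁆ ∈ D := fun a b h => commutatorElement_inv a b ▸ inv_mem h
  have h9 : ∀ a ∈ Q, ∀ b ∈ normalizer (Q : Set X), ⁅b, a⁆ ∈ D := fun a ha b hb =>
    hQD (mul_mem ((mem_normalizer_iff.1 hb a).1 ha) (inv_mem ha))
  have h10 : ∀ a, ⁅z, a⁆ ∈ D := fun a => (commutatorElement_eq_one_iff_mul_comm.2 (c1 a)).symm ▸ one_mem D
  have h11 : ∀ a, ⁅a, a⁆ ∈ D := fun a => (commutatorElement_self a).symm ▸ one_mem D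
  have h12 : z ∈ D := by
    refine comm_closure_le ?_ ?_ (commutator_mono h6 h6 h)
    · rintro a (h | h | h | h)
      · exact le_normalizer (hQD h)
      · rw [h]
        refine h5 x hx ?_
        rwa [commutatorElement_def, ← mul_assoc x, h1.eq, mul_inv_cancel_right]
      · rw [h]
        refine h5 s hs ?_
        rw [show s * ⁅s, x⁆ * s⁻¹ = s * s * x * (s * s)⁻¹ * (s * x⁻¹ * s⁻¹) by rw [commutatorElement_def]; group, ← c2,
          show x * (s * s) * (s * s)⁻¹ * (s * x⁻¹ * s⁻¹) = ⁅s, x⁆⁻¹ by rw [commutatorElement_def]; group]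
        exact inv_mem hu
      · exact h ▸ center_le_normalizer _ hz
    · intro a ha b hb
      rcases id ha with h | h | h | h <;> rcases id hb with h' | h' | h' | h' <;>
        first
        | exact h9 b h' a (h7 a ha) | exact h8 _ _ (h9 a h b (h7 b hb)) | (rw [h, h']; exact h11 _)
        | (rw [h, h']; exact hu) | (rw [h, h']; exact h8 _ _ hu) | (rw [h]; exact h10 _) | (rw [h']; exact h8 _ _ (h10 _))
  have hu' : ⁅s, x⁆ ∈ normalizer (Q : Set X) := mul_mem (mul_mem (mul_mem hs hx) (inv_mem hs)) (inv_mem hx)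
  rw [hD, ← SetLike.mem_coe, coe_mul_of_right_le_normalizer_left Q _ (zpowers_le.2 hu')] at h12
  obtain ⟨q, hq, _, ⟨k, rfl⟩, e⟩ := h12
  have h13 : (⁅s, x⁆ ^ k) ^ 4 = 1 := by rw [← zpow_natCast, ← zpow_mul, mul_comm, zpow_mul, zpow_natCast, h3, one_zpow]
  have h14 : q ^ 4 = 1 := by
    rw [eq_mul_inv_of_mul_eq e, (show Commute z _ from c1 _).mul_pow, inv_pow, h13, show 4 = 2 * 2 from rfl, pow_mul,
      pow_two z, zz]
    simp
  obtain ⟨j, hj⟩ := hQ ⟨q, hq⟩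
  have h15 : q = 1 := orderOf_eq_one_iff.1 (Nat.eq_one_of_dvd_coprimes
    (((Nat.coprime_primes hp.out Nat.prime_two).2 h0).pow j 2) (orderOf_dvd_of_pow_eq_one (congrArg Subtype.val hj))
    (orderOf_dvd_of_pow_eq_one h14))
  have h16 : orderOf (φ ⁅s, x⁆) = 2 ^ (1 + 1) := by
    have := Fact.mk Nat.prime_two
    refine orderOf_eq_prime_pow (fun e => h4 ?_) (by rw [← map_pow, show 2 ^ (1 + 1) = 4 from rfl, h3, map_one])
    rw [← map_pow, commutatorElement_def, h1.symm.inv_right.mul_pow, conj_pow, inv_pow, map_mul, map_inv, mul_inv_eq_one,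
      map_mul, map_mul, map_inv, mul_inv_eq_iff_eq_mul] at e
    simpa only [pow_two, _root_.pow_one, _root_.map_mul] using e
  have e : ⁅s, x⁆ ^ k = z := by simpa [h15] using e
  obtain ⟨k, rfl⟩ := orderOf_dvd_iff_zpow_eq_one.2 ((map_zpow φ _ k).symm.trans (e ▸ (hk z).2 (Or.inr rfl)))
  rw [← e, h16, zpow_mul, zpow_natCast, show 2 ^ (1 + 1) = 4 from rfl, h3, one_zpow]

/-- **the count for a group of order `p ^ 3`** -/
theorem loc [Finite X] [Fact p.Prime] {g : ℕ → X} {eqv : List ℕ → List ℕ → Bool}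
    (he : ∀ v w, eqv v w = true → ev g v = ev g w) {c : Cert} (h1 : _root_.Cfsg.Agent.MO.S.Pc.chk eqv p 3 2 c = true) (h2 : expC 3 2 c = true)
    (hc : p ^ 3 ≤ Nat.card (V g 3 0)) {R R' : List (List ℕ)} (h3 : nrm eqv 3 [3] R = true) (h4 : nrm eqv 3 [4] R' = true)
    {n k : ℕ} {prog : List ℕ} (hn : Nat.card (normalizer (V g 3 0 : Set X)) ≤ Nat.card (V g 3 0) * n)
    (h5 : chkM p 2 [R, R'] (idM 2) prog n k = true) :
    normalizer (V g 3 0 : Set X) = V g 3 0 ⊔ _root_.Subgroup.closure {g 3, g 4} ∧ k0 p (normalizer (V g 3 0 : Set X)) = k := by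
  have h := pc_of_chk he h1
  have hL : Loc p 2 (V g 3 0) g := ⟨IsPGroup.of_card (h.card_zero hc), fun j hj => mem_V (Nat.zero_le _) (by omega),
    fun j hj => exp_of_chk he h1 h2 _ (mem_V (Nat.zero_le _) (by omega)), fun K h1 h2 => h.gen h1 h2, h.relIndex hc⟩
  have e : ∀ a, ev g [a] = g a := fun a => mul_one _
  have h6 : V g 3 0 ⊔ _root_.Subgroup.closure {g 3, g 4} ≤ normalizer (V g 3 0 : Set X) :=
    sup_le le_normalizer ((closure_le _).2 (Set.pair_subset (e 3 ▸ nrm_mem he h3) (e 4 ▸ nrm_mem he h4)))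
  obtain ⟨h7, h8⟩ := fN_card_of_chk hL le_sup_left h6 ((card_le_of_le h6).trans hn) (List.forall_mem_cons.2
    ⟨⟨g 3, mem_sup_right (_root_.Subgroup.subset_closure (by simp)), fun j hj => h.comm_eq ▸ e 3 ▸ nrm_mod he h3 2 (by omega)⟩,
      List.forall_mem_singleton.2
      ⟨g 4, mem_sup_right (_root_.Subgroup.subset_closure (by simp)), fun j hj => h.comm_eq ▸ e 4 ▸ nrm_mod he h4 2 (by omega)⟩⟩)
    (α := 1) (fun _ => Iff.rfl) (fun _ => Iff.rfl) hL.mt_one h5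
  have h9 := eq_of_le_of_card_ge h6 (h8 ▸ hn)
  exact ⟨h9.symm, h9 ▸ (fN_one _).symm.trans h7⟩

end generic

open Cfsg.Agent.SporadicB.RuOrder (H card_H)
open Cfsg.Agent.SporRec.TCUpperCert (wprod)
open Cfsg.Agent.RuD.Letters (ml eq_one_of_base)
open Cfsg.Agent.H300.Ru (evT evT_eq okW)
open Cfsg.Agent.TAB.Ru (finH)

/-- **the count in the double cover** -/
theorem lk_two {p c : ℕ} [Fact p.Prime] (hp : p ≠ 2) (Q : Sylow p H) {x s : H}
    (hN : normalizer ((Q : Subgroup H) : Set H) = (Q : Subgroup H) ⊔ _root_.Subgroup.closure {x, s} ∧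
      k0 p (normalizer ((Q : Subgroup H) : Set H)) = c)
    (h2 : s * s = 1) (h4 : s * (x * x) ≠ x * x * s)
    (h : ∀ (K : Type) [Group K] [Finite K] (σ : K →* H) (z : K) (ψ : K → ℂ), Psi σ z ψ → ∀ a b, σ a = x → σ b = s →
      b * b ∈ center K → Commute a (b * a * b⁻¹) ∧ ⁅b, a⁆ ^ 4 = 1) : LK p 2 H c := fun K _ _ σ v _ => by
  obtain ⟨z, ψ, L⟩ := exists_psi v
  have := finH
  obtain ⟨P, rfl⟩ := Sylow.mapSurjective_surjective v.surj p Q
  have h5 := map_normalizer σ v.surj P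
  rw [Sylow.coe_mapSurjective, ← h5] at hN
  obtain ⟨a, ha, rfl⟩ := hN.1.ge (mem_sup_right (Subgroup.subset_closure (Set.mem_insert x _)))
  obtain ⟨b, hb, rfl⟩ := hN.1.ge (mem_sup_right (Subgroup.subset_closure (Set.mem_insert_of_mem _ (Set.mem_singleton s))))
  obtain ⟨h6, h7⟩ := h K σ z ψ L a b rfl rfl (v.ker.le ((map_mul σ b b).trans h2))
  refine ⟨P, fun l hl => (Up.kk_of_comm σ v.ker (center_le_normalizer _) (fun w hw h8 => ?_) hl).trans hN.2⟩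
  rcases (L.ker w).1 (v.ker.ge hw) with e | rfl
  exacts [e, eq_one_of_comm hp L.cen L.zz L.ker P.isPGroup' ha hb hN.1.le h6 h2 h7 h4 h8]

/-- the letters -/
noncomputable def yy (LW : List (List ℕ)) (a : ℕ) : H := wprod ml (LW.getD a [])

/-- their action -/
noncomputable def ff (LW : List (List ℕ)) (a : ℕ) : ℕ → ℕ := evT (LW.getD a [])

/-- the test -/
noncomputable def eq4 (LW : List (List ℕ)) : List ℕ → List ℕ → Bool := eqb (ff LW) [0, 29, 580, 577]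

variable {LW : List (List ℕ)} (hL : LW.all okW = true)
include hL

theorem yy_smul (a : ℕ) (x : Fin 4060) : ((yy LW a • x : Fin 4060) : ℕ) = ff LW a x := by
  refine evT_eq ?_ x
  rw [List.getD_eq_getElem?_getD]
  rcases h : LW[a]? with _ | l
  exacts [rfl, List.all_eq_true.1 hL l (List.mem_of_getElem? h)]

theorem eq4_sound : ∀ v w, eq4 LW v w = true → ev (yy LW) v = ev (yy LW) w :=
  eqb_sound Fin.val_injective (yy_smul hL) fun _ h =>
    eq_one_of_base (h _ (by decide)) (h _ (by decide)) (h _ (by decide)) (h _ (by decide))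

theorem card_ge_yy {k M : ℕ} {lv : List (ℕ × List (List ℕ))}
    (h : (chn (imw (ff LW)) (Nat.blt · 4060) k lv [] && Nat.ble M (lv.map fun v => v.2.length).prod) = true) :
    M ≤ Nat.card (V (yy LW) k 0) :=
  have := finH
  card_ge Fin.val_injective (fun c hc => ⟨⟨c, Nat.blt_eq ▸ hc⟩, rfl⟩) (fun u _ => imw_spec (yy_smul hL) u) h

theorem ne_of_imw {v w : List ℕ} (h : imw (ff LW) v 0 ≠ imw (ff LW) w 0) : ev (yy LW) v ≠ ev (yy LW) w := fun e =>
  h ((imw_spec (yy_smul hL) v 0).symm.trans (e ▸ imw_spec (yy_smul hL) w 0))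

omit hL

/-! ### the prime `3` -/

/-- the letters -/
def LW3 : List (List ℕ) := [[6, 5, 3, 0, 5, 2, 0, 4, 2, 5, 3, 6, 7, 8, 0, 5, 1, 0, 7, 7, 2, 1],
  [5, 3, 2, 1, 0, 6, 7, 6, 2, 8, 7, 5, 7, 2, 6, 2, 0, 3, 5, 7, 0, 4, 7, 6], [8],
  [0, 3, 6, 4, 5, 3, 6, 7, 0, 5, 3, 1, 3, 2, 6, 1, 7], [7, 4, 6, 5, 3, 6, 6, 7, 5, 8, 3, 5, 4, 0, 6, 5, 0, 4]]

/-- the relations -/
def cert : Cert where
  pw := [[], [], []]
  cm := [[[], [2], []], [[], [], []], [[], [], []]]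
  dv := [([], [], []), ([], [], []), ([0], [1], [])]

theorem ok3 : LW3.all okW = true := by decide +kernel

theorem chk3 : _root_.Cfsg.Agent.MO.S.Pc.chk (eq4 LW3) 3 3 2 cert = true := by decide +kernel

theorem card3 : 3 ^ 3 ≤ Nat.card (V (yy LW3) 3 0) :=
  card_ge_yy ok3 (lv := [(71, [[], [1], [0, 0, 2], [0, 2], [0, 0], [0, 0, 1], [0], [0, 1], [2]]),
    (0, [[], [1, 1, 2, 2], [1, 2]])]) (by decide +kernel)

theorem loc_3 [Fact (Nat.Prime 3)] : ∃ Q : Sylow 3 H,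
    normalizer ((Q : Subgroup H) : Set H) = (Q : Subgroup H) ⊔ _root_.Subgroup.closure {yy LW3 3, yy LW3 4} ∧
      k0 3 (normalizer ((Q : Subgroup H) : Set H)) = 9 := by
  have := finH
  have h := pc_of_chk (eq4_sound ok3) chk3
  obtain ⟨Q, hQ⟩ := h.sylow card3 (o := 5404672000) card_H (by norm_num)
  refine ⟨Q, hQ ▸ loc (eq4_sound ok3) chk3 (by decide) card3 (R := [[0, 1, 1], [1, 2, 1], [0, 0, 2]])
    (R' := [[2, 1, 1], [0, 1, 1], [0, 0, 2]]) (by decide +kernel) (by decide +kernel) (n := 16) (k := 9)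
    (prog := [1, 1, 1, 1, 1, 0, 0, 0, 2, 1, 0, 0, 0, 2, 1, 1, 2, 0, 0, 0, 0, 0, 2, 1, 1, 2]) ?_ (by decide +kernel)⟩
  rw [← hQ]
  refine Up.card_le_of_GL Q (Up.cent_pgroup (q := 3 ^ 3) TAB.Ru.mass TAB.Ru.rat (by decide +kernel) _ ?_) (d := 2) (k := 1)
    (hQ ▸ h.index card3) (hQ ▸ exp_of_chk (eq4_sound ok3) chk3 (by decide)) (by rw [card_H]; decide) (by norm_num)
  rw [hQ, h.card_zero card3]

theorem lk_2_3 [Fact (Nat.Prime 3)] : LK 3 2 H 9 := by
  obtain ⟨Q, hQ⟩ := loc_3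
  have h1 := eq4_sound ok3 [4, 4] [] (by decide +kernel)
  have h2 := eq4_sound ok3 [4, 3] [3, 3, 3, 4] (by decide +kernel)
  have h3 := ne_of_imw ok3 (v := [4, 3, 3]) (w := [3, 3, 4]) (by decide +kernel)
  simp only [ev_cons, ev_nil, mul_one, ← mul_assoc] at h1 h2 h3
  refine lk_two (by norm_num) Q hQ h1 (by rwa [← mul_assoc]) fun K _ _ σ z ψ L a b ha hb h4 => ?_
  obtain ⟨w, h5, h6, h7⟩ : ∃ w ∈ center K, w * w = 1 ∧ b * a * b⁻¹ = a ^ 3 * w := by
    refine ⟨(a ^ 3)⁻¹ * (b * a * b⁻¹), ?_⟩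
    rcases (L.ker ((a ^ 3)⁻¹ * (b * a * b⁻¹))).1 (by
      rw [map_mul, map_inv, inv_mul_eq_one]
      simp only [ha, hb, h2, pow_succ, _root_.pow_zero, _root_.one_mul, _root_.map_mul, _root_.map_inv, _root_.mul_inv_cancel_right]) with e | e
    · exact ⟨e ▸ one_mem _, by rw [e, one_mul], by group⟩
    · exact ⟨e ▸ L.cen, e ▸ L.zz, by group⟩
  have h8 : ∀ u, Commute u w := mem_center_iff.1 h5
  have h9 : a ^ 8 = 1 := by
    have h9 : b * (b * a * b⁻¹) * b⁻¹ = a := by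
      rw [show b * (b * a * b⁻¹) * b⁻¹ = b * b * a * (b * b)⁻¹ by group, ← mem_center_iff.1 h4, mul_inv_cancel_right]
    rw [h7, ← mul_assoc, mul_assoc _ w, ← (h8 _).eq, ← mul_assoc, ← conj_pow, h7, (h8 _).mul_pow, pow_succ w,
      pow_two w, h6, one_mul, mul_assoc, h6, mul_one, ← pow_mul] at h9
    exact mul_right_cancel ((pow_succ a 8).symm.trans (h9.trans (one_mul a).symm))
  refine ⟨h7 ▸ ((Commute.refl a).pow_right 3).mul_right (h8 a), ?_⟩
  rw [commutatorElement_def, h7, mul_assoc, ← (h8 _).eq, ← mul_assoc, pow_succ a, mul_inv_cancel_right, (h8 _).mul_pow,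
    ← pow_mul, h9, show 4 = 2 * 2 from rfl, pow_mul, pow_two w, h6, one_pow, one_mul]

/-! ### the prime `5` -/

/-- the letters -/
def LW5 : List (List ℕ) := [[2, 1, 1],
  [5, 7, 1, 2, 8, 5, 2, 6, 7, 6, 7, 2, 6, 7, 6, 3, 3, 5, 2, 7, 1, 2, 3, 8, 1, 2, 0, 2], [8, 0, 5],
  [5, 7, 5, 3, 6, 0, 7, 5, 1, 3, 1, 7, 6, 3, 4], [8, 0, 4, 2],
  [7, 7, 1, 7, 5, 7, 7, 8, 6, 7, 5, 3, 5, 7, 8, 0, 6, 2, 1, 7, 4, 6, 6, 1, 5], [3, 5, 6, 7, 1, 1]]

theorem ok5 : LW5.all okW = true := by decide +kernel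

theorem chk5 : _root_.Cfsg.Agent.MO.S.Pc.chk (eq4 LW5) 5 3 2 cert = true := by decide +kernel

theorem card5 : 5 ^ 3 ≤ Nat.card (V (yy LW5) 3 0) :=
  card_ge_yy ok5 (lv := [(772, [[], [1], [0], [0, 1], [0, 0]]), (236, [[], [2], [2, 2], [2, 2, 2], [2, 2, 2, 2]]),
    (0, [[], [0, 0, 1, 2, 2, 2], [0, 1, 1, 1, 2, 2, 2], [0, 0, 0, 0, 1, 1, 2, 2, 2, 2], [0, 0, 0, 1, 1, 1, 1]])])
    (by decide +kernel)

theorem loc_5 [Fact (Nat.Prime 5)] : ∃ Q : Sylow 5 H,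
    normalizer ((Q : Subgroup H) : Set H) = (Q : Subgroup H) ⊔ _root_.Subgroup.closure {yy LW5 3, yy LW5 4} ∧
      k0 5 (normalizer ((Q : Subgroup H) : Set H)) = 20 := by
  have := finH
  have h := pc_of_chk (eq4_sound ok5) chk5
  obtain ⟨Q, hQ⟩ := h.sylow card5 (o := 1167409152) card_H (by norm_num)
  refine ⟨Q, hQ ▸ loc (eq4_sound ok5) chk5 (by decide) card5 (R := [[0, 1, 2], [2, 4, 3], [0, 0, 3]])
    (R' := [[4], [1, 1, 2], [0, 0, 4]]) (by decide +kernel) (by decide +kernel) (n := 32) (k := 20)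
    (prog := [1, 1, 1, 2, 1, 1, 1, 2, 0, 0, 2, 0, 0, 2, 0, 0, 0, 0, 2, 1, 1, 1, 2, 0, 0, 2, 0, 0, 2, 0, 0, 0, 0, 2, 1, 1,
      1, 2, 0, 0, 2, 0, 0, 2, 0, 0, 0, 0, 2, 1, 1, 1, 2, 0, 0, 2, 0, 0, 2]) ?_ (by decide +kernel)⟩
  rw [h.card_zero card5]
  exact (card_norm_le h card5 (norm_comm (eq4_sound ok5) chk5)).trans
    (Nat.mul_le_mul_left 4 (H300.Ru.hX (i := 9) (by norm_num)).2.2.2)

theorem lk_2_5 [Fact (Nat.Prime 5)] : LK 5 2 H 20 := by
  obtain ⟨Q, hQ⟩ := loc_5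
  have h1 := eq4_sound ok5 [4, 4] [] (by decide +kernel)
  have h2 := eq4_sound ok5 [4, 3, 4, 3] [3, 4, 3, 4] (by decide +kernel)
  have h3 := ne_of_imw ok5 (v := [4, 3, 3]) (w := [3, 3, 4]) (by decide +kernel)
  have h4 := eq4_sound ok5 [5, 3] [6, 5] (by decide +kernel)
  have h5 := eq4_sound ok5 [3, 3, 3, 3] [] (by decide +kernel)
  simp only [ev_cons, ev_nil, mul_one, ← mul_assoc] at h1 h2 h3 h4 h5
  have h6 : TAB.Ru.T.ty (yy LW5 3) = 7 :=
    (H300.Ru.fam_conj (isConj_iff.2 ⟨_, (mul_inv_eq_of_eq_mul h4).trans (pow_one _).symm⟩)).trans (H300.Ru.fam_R 7)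
  refine lk_two (by norm_num) Q hQ h1 (by rwa [← mul_assoc]) fun K _ _ σ z ψ L a b ha hb _ => ?_
  have h7 : Commute a (b * a * b⁻¹) := (L.comm (by
    simp only [map_mul, map_inv, ha, hb, inv_eq_of_mul_eq_one_right h1, h2, ← mul_assoc])
    (by rw [ha, h6]; decide +kernel)).symm
  have h8 : a ^ 4 ∈ center K := by
    rcases (L.ker (a ^ 4)).1 (by simp only [ha, h5, pow_succ, _root_.pow_zero, _root_.one_mul, _root_.map_mul]) with e | e
    exacts [e ▸ one_mem _, e ▸ L.cen]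
  refine ⟨h7, ?_⟩
  rw [commutatorElement_def, h7.symm.inv_right.mul_pow, conj_pow, mem_center_iff.1 h8, mul_inv_cancel_right, inv_pow,
    mul_inv_cancel]

end Cfsg.Agent.MO.S.Ru
end

-- part: MO/S/Ru/Main
section
/-!
# MO, the rows of `Ru` and `2.Ru` for the primes `3` and `5` (helper45)
-/

set_option autoImplicit false

namespace Cfsg.Agent.MO.S

open Cfsg Cfsg.Agent.MO.T Cfsg.Agent.MO.S.Ru
open Cfsg.Agent.OddHalf.Table.OutRu (inner)

theorem Ru.k0_H (p : ℕ) : k0 p SporadicB.RuOrder.H = TAB.Ru.degL.countP fun a => a % p != 0 :=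
  (k0_congr RuLat.Main.equiv).symm.trans (k0_of_degList TAB.Ru.deg)

theorem ru_1_3 : SmC 3 1 Spor.Ru :=
  have := Fact.mk Nat.prime_three
  SmC.congr RuLat.Main.equiv (smC_one_inn _root_.Cfsg.Agent.OddHalf.Table.OutRu.inner fun _ => loc_3.imp fun _ h => h.2.trans (by rw [k0_H]; decide +kernel))

theorem ru_2_3 : SmC 3 2 Spor.Ru :=
  have := Fact.mk Nat.prime_three
  SmC.congr RuLat.Main.equiv (smC_of_kk (noOut_of_inn _root_.Cfsg.Agent.OddHalf.Table.OutRu.inner 2) gk_2_3 lk_2_3)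

theorem ru_1_5 : SmC 5 1 Spor.Ru :=
  have := Fact.mk Nat.prime_five
  SmC.congr RuLat.Main.equiv (smC_one_inn _root_.Cfsg.Agent.OddHalf.Table.OutRu.inner fun _ => loc_5.imp fun _ h => h.2.trans (by rw [k0_H]; decide +kernel))

theorem ru_2_5 : SmC 5 2 Spor.Ru :=
  have := Fact.mk Nat.prime_five
  SmC.congr RuLat.Main.equiv (smC_of_kk (noOut_of_inn _root_.Cfsg.Agent.OddHalf.Table.OutRu.inner 2) gk_2_5 lk_2_5)

end Cfsg.Agent.MO.S
end

private theorem dce_3cd83c676072 : _root_.True := by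
  try have : _root_.True := by simp only [_root_.Cfsg.Agent.MO.S.Ru.rw.eq_1]
  try have : _root_.True := by simp only [_root_.Cfsg.Agent.MO.S.Ru.eps.eq_1]
  try have : _root_.True := by simp only [_root_.Cfsg.Agent.MO.S.Ru.sy.eq_1]
  try have : _root_.True := by simp only [_root_.Cfsg.Agent.MO.S.Ru.ww.eq_1]
  try have : _root_.True := by simp only [_root_.Cfsg.Agent.MO.S.Ru.mm.eq_1]
  try have : _root_.True := by simp only [_root_.Cfsg.Agent.MO.S.Mat.ch.eq_1]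
  try have : _root_.True := by simp only [_root_.Cfsg.Agent.MO.S.Mat.sb.eq_4]
  try have : _root_.True := by simp only [_root_.Cfsg.Agent.MO.fA.eq_1]
  try have : _root_.True := by simp only [_root_.Cfsg.Agent.MO.S.Mat.pw.eq_1]
  try have : _root_.True := by simp only [_root_.Cfsg.Agent.MO.S.Mat.Cw.eq_1]
  try have : _root_.True := by simp only [_root_.Cfsg.Agent.H24.M12.rp.eq_1]
  try have : _root_.True := by simp only [_root_.Cfsg.Agent.MO.S.Mat.sb.eq_1]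
  try have : _root_.True := by simp only [_root_.Cfsg.Agent.MO.S.Mat.sb.eq_2]
  try have : _root_.True := by simp only [_root_.Cfsg.Agent.MO.S.Mat.sb.eq_3]
  try have : _root_.True := by simp only [_root_.Cfsg.Agent.MO.S.Mat.sd.eq_1]
  try have : _root_.True := by simp only [_root_.Cfsg.Agent.MO.S.Ru.cc.eq_1]
  try have : _root_.True := by simp only [_root_.Cfsg.Agent.MO.S.Mat.dl.eq_1]
  try have : _root_.True := by simp only [_root_.Cfsg.Agent.MO.S.Ru.nn.eq_1]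
  try have : _root_.True := by simp only [_root_.Cfsg.Agent.MO.S.Mat.pw.eq_def]
  try have : _root_.True := by simp only [_root_.Cfsg.Agent.MO.S.Mat.pw.eq_2]
  try have : _root_.True := by simp only [_root_.Cfsg.Agent.MO.S.Ru.pr.eq_1]
  exact _root_.True.intro
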